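import Cfsg.Agent.Lib.FischerClassTy.PlusNear

/-!
In a group over Fi23 the joint centraliser of a far pair maps isomorphically onto the group of the
three classes of 1080 transpositions.
-/

set_option autoImplicit false
set_option maxRecDepth 100000

namespace Cfsg.Agent.FischerClassTy.Plus

open Cfsg.Agent.CosetCert
open Cfsg.Agent.CosetData
open Cfsg.Agent.Fischer
open Cfsg.Agent.Fischer.Factor
open Cfsg.Agent.FischerPresented
open Cfsg.Agent.FischerUnique24 (Ctx Com Hd Far)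
open Cfsg.Agent.Fi23Ord3 (GT el apt apt_el actF wok fstep)
open Cfsg.Agent.FischerThree24 (Chart el_tr el_single)
open Cfsg.Agent.Fi23Plus (II W cls gg)
open PlusData

local notation "gT" => Setup.gen Fi23A.setup

theorem el_mem_W : ∀ w : List ℕ, (w.all fun x => Nat.ble 1 x && Nat.ble x 9) = true → el w ∈ W
  | [], _ => one_mem _
  | x :: w, hw => by
    simp only [List.all_cons, Bool.and_eq_true, Nat.ble_eq] at hw
    rw [show x :: w = [x] ++ w from rfl, Fi23Ord3.el_append]
    exact mul_mem (el_mem_W w hw.2) (Fi23Plus.gg_mem_W hw.1.1 hw.1.2)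

universe u v

variable {G : Type u} {X : Type v} [Group G] [Group X] [Finite G] [Finite X] {D : Set G} {D1 : Set X}
  {r u b : G} {f : G → GT}

namespace Base

variable (B : Base D r u b f)
include B

theorem mem_u : u ∈ Nb D r := B.com.1

omit [Group X] [Finite X] in
theorem hd_com {y : G} (hy : y ∈ Nb D r) : y ∈ Hd D r := Subgroup.subset_closure hy

omit [Group X] [Finite X] in
theorem closure_le : Subgroup.closure (Com D r b) ≤ Hd D r := Subgroup.closure_mono Set.inter_subset_left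

omit [Group X] [Finite X] in
/-- A lift of a neighbour of the standard transposition in the three classes is a common neighbour. -/
theorem mem_near {w : G} (hw : w ∈ Nb D r) (h : f w ∈ IINb) : w ∈ Nb D u ∩ Com D r b := by
  rw [← B.image] at h
  obtain ⟨y, hy, e⟩ := h
  rwa [B.chart.isChart.inj w hw y hy.2.1 e.symm]

omit [Group X] [Finite X] in
theorem near_II {y : G} (hy : y ∈ Nb D u ∩ Com D r b) : f y ∈ IINb := B.image ▸ ⟨y, hy, rfl⟩

variable (C : Ctx D D1)
include C

/-- The near common neighbours moved by a lift of an element of the three classes' group are common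
neighbours. -/
theorem spread {g : G} (hg : g ∈ Hd D r) (hgII : f g ∈ II) (hy₀ : f g * Fi23.z * (f g)⁻¹ ∈ IINb) :
    ∀ y ∈ Nb D u ∩ Com D r b, g * y * g⁻¹ ∈ Com D r b := by
  have hgr : g * r * g⁻¹ = r := conj_eq_self_of_commute (commute_of_mem_closure_nb hg).symm
  have hnb : ∀ {w}, w ∈ Nb D r → g * w * g⁻¹ ∈ Nb D r := fun {w} hw => hgr ▸ nb_conj C.group g hw
  have huH : u ∈ Hd D r := Subgroup.subset_closure B.mem_u
  have hy : g * u * g⁻¹ ∈ Nb D u ∩ Com D r b :=
    B.mem_near (hnb B.mem_u) (by rw [B.chart.map_conj hg huH, B.fu]; exact hy₀)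
  have hub : b ∈ Nb D u := ⟨B.mem_b, B.com.2.2.1.symm, B.com.2.2.2.symm⟩
  have hbn : g * b * g⁻¹ ∈ Nb D (g * u * g⁻¹) := nb_conj C.group g hub
  have transfer : ∀ w ∈ Nb D r, f w ∈ II → w ∈ Nb D (g * u * g⁻¹) → w ∈ Nb D (g * b * g⁻¹) := by
    intro w hw hwII hwy
    have hgi : g⁻¹ * r * g = r := by
      nth_rw 1 [← hgr]
      group
    have hw1 : g⁻¹ * w * g ∈ Nb D r := by
      have := nb_conj C.group g⁻¹ hw
      rwa [inv_inv, hgi] at this
    have hw1u : g⁻¹ * w * g ∈ Nb D u := by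
      have := nb_conj C.group g⁻¹ hwy
      rwa [inv_inv, show g⁻¹ * (g * u * g⁻¹) * g = u by group] at this
    have hfw : f (g⁻¹ * w * g) ∈ II := by
      have e := B.chart.map_conj (inv_mem hg) (Subgroup.subset_closure hw : w ∈ Hd D r)
      rw [inv_inv, B.chart.isChart.map_inv hg, inv_inv] at e
      rw [e]
      exact mul_mem (mul_mem (inv_mem hgII) hwII) hgII
    have hmem : f (g⁻¹ * w * g) ∈ IINb := by
      refine ⟨B.chart.isChart.mem _ hw1, hfw, fun e => hw1u.2.1 ?_, ?_⟩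
      · exact B.chart.isChart.inj _ hw1 u B.mem_u (e.trans B.fu.symm)
      · rw [← B.fu]
        exact (B.chart.isChart.comm u B.mem_u _ hw1).2 hw1u.2.2
    have := nb_conj C.group g (B.mem_near hw1 hmem).2.2
    rwa [show g * (g⁻¹ * w * g) * g⁻¹ = w by group] at this
  have huy : u ∈ Nb D (g * u * g⁻¹) := ⟨B.mem_u.1, hy.1.2.1.symm, hy.1.2.2.symm⟩
  have hub' := transfer u B.mem_u (by rw [B.fu]; exact Fi23Plus.z_mem_II) huy
  have hvu : g * b * g⁻¹ ∈ Nb D u := ⟨hbn.1, hub'.2.1.symm, hub'.2.2.symm⟩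
  have key := C.twin_three B.far B.mem_r B.mem_b B.com hy hvu hbn fun y hy' hyy =>
    (transfer y hy'.2.1 (B.near_II hy').2.1 hyy).2.2
  intro y hy'
  have h1 := hnb hy'.2.1
  have h2 : g * y * g⁻¹ ∈ Nb D (g * b * g⁻¹) := nb_conj C.group g hy'.2.2
  rcases key with e | e | e
  · exfalso
    refine B.far ?_
    rw [show b = r from mul_left_cancel (mul_right_cancel (e.trans hgr.symm))]
  · exact ⟨h1, e ▸ h2⟩
  · refine ⟨h1, ?_⟩
    rw [e] at h2
    have h3 := nb_conj C.group r h2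
    have hr2 := TSet.sq C.group.1 B.mem_r
    have hri := TSet.inv C.group.1 B.mem_r
    rw [conj_eq_self_of_commute h1.2.2, hri,
      show r * (r * b * r) * r = (r * r) * b * (r * r) by group, hr2, one_mul, mul_one] at h3
    exact h3

theorem conj_com' {g : G} (hg : g ∈ Subgroup.closure (Com D r b)) {y : G} (hy : y ∈ Com D r b) :
    g * y * g⁻¹ ∈ Com D r b ∧ f (g * y * g⁻¹) = f g * f y * (f g)⁻¹ :=
  ⟨C.conj_com (C.com_le hg) hy, B.chart.map_conj (B.closure_le hg) (Subgroup.subset_closure hy.1)⟩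

/-- Each of the nine generators is the image of a common neighbour. -/
theorem exists_gen {x : ℕ} (h1 : 1 ≤ x) (h9 : x ≤ 9) : ∃ y ∈ Com D r b, f y = gT x := by
  have small : ∀ x, 1 ≤ x → x < 9 → gT x ∈ IINb := fun x h1 h9 => by
    obtain ⟨g1, g2, g3⟩ := FischerUnique23.gen_nb x h9
    exact ⟨g1, Fi23Plus.gg_eq x ▸ Fi23Plus.gg_mem h1 h9.le, g2, g3⟩
  rcases h9.lt_or_eq with h | rfl
  · obtain ⟨g1, -⟩ := FischerUnique23.gen_nb x h
    obtain ⟨y, hy, e⟩ := B.chart.isChart.lift _ g1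
    exact ⟨y, (B.mem_near hy (e ▸ small x h1 h)).2, e⟩
  obtain ⟨hw, hc0, hc1, hne⟩ := carry_ok
  have hwk : wok carryW = true := by
    rw [wok, List.all_eq_true]
    intro y hy
    have := List.all_eq_true.1 hw y hy
    simp only [Bool.and_eq_true, Nat.ble_eq] at this
    exact Nat.blt_eq.mpr (by omega)
  have hgII : el carryW ∈ II := Fi23Plus.W_le_II (el_mem_W carryW hw)
  obtain ⟨g1, hg1⟩ := Out23.tr_gpt (show 1 < 10 by norm_num)
  obtain ⟨g9, hg9⟩ := Out23.tr_gpt (show 9 < 10 by norm_num)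
  obtain ⟨hlt, hz⟩ := el_tr hwk (show 0 < 31671 by norm_num)
  rw [show Out23.tr (⟨0, show 0 < 31671 by norm_num⟩ : Fin 31671) = Fi23.z from Out23.tr_zero] at hz
  have hz1 : el carryW * Fi23.z * (el carryW)⁻¹ = gT 1 :=
    hz.trans ((FischerThree24.tr_congr hlt g1 hc0).trans hg1)
  obtain ⟨g, hg, he⟩ := B.chart.isChart.surj (el carryW)
  have hall := B.spread C hg (he ▸ hgII) (by rw [he, hz1]; exact small 1 le_rfl (by norm_num))
  set v := (el carryW)⁻¹ * gT 9 * el carryW with hv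
  have hvm : v ∈ IINb := by
    refine ⟨?_, ?_, ?_, ?_⟩
    · rw [hv, ← hg9]
      have := Fi23Ord3.conj_D (el carryW)⁻¹ (Out23.tr_mem ⟨_, g9⟩)
      rwa [inv_inv] at this
    · rw [hv, ← Fi23Plus.gg_eq]
      exact mul_mem (mul_mem (inv_mem hgII) (Fi23Plus.gg_mem (by norm_num) le_rfl)) hgII
    · intro e
      have h2 : gT 9 = gT 1 := by rw [← hz1, ← e, hv]; group
      rw [← hg1, ← hg9] at h2
      exact hne (congrArg Fin.val (Out23.tr_injective h2))
    · rw [← commute_conj_iff (el carryW), hz1, hv,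
        show el carryW * ((el carryW)⁻¹ * gT 9 * el carryW) * (el carryW)⁻¹ = gT 9 by group]
      refine Commute.symm ?_
      rw [← hg1]
      exact (commute_gen_iff (by norm_num) g1).2 hc1
  obtain ⟨w, hw', hwe⟩ := B.image.ge hvm
  refine ⟨g * w * g⁻¹, hall w hw', ?_⟩
  rw [B.chart.map_conj hg (Subgroup.subset_closure hw'.2.1), he, hwe, hv]
  group

theorem exists_lift {g : GT} (hg : g ∈ W) : ∃ l ∈ Subgroup.closure (Com D r b), f l = g := by
  have : W ≤ Subgroup.closure (f '' Com D r b) := by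
    rw [Fi23Plus.W, Subgroup.closure_le]
    rintro _ ⟨x, hx, rfl⟩
    obtain ⟨y, hy, e⟩ := B.exists_gen C hx.1 hx.2
    exact Subgroup.subset_closure ⟨y, hy, e.trans (Fi23Plus.gg_eq x).symm⟩
  obtain ⟨l, hl, -, e⟩ := B.chart.isChart.exists_of_mem_closure
    (fun y hy => Subgroup.subset_closure hy.1) (this hg)
  exact ⟨l, hl, e⟩

/-- Common neighbours map into the three classes. -/
theorem image_II {y : G} (hy : y ∈ Com D r b) : f y ∈ II := by
  obtain ⟨⟨p, hp⟩, hpe⟩ := Out23.exists_tr (B.chart.isChart.mem y hy.1)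
  rw [← hpe, mem_II_iff hp]
  by_contra hc
  have h3 : cls p = 3 := by
    have h := allBelow_spec (show allBelow (fun q => Nat.ble (cls q) 3) 31671 = true by decide +kernel) hp
    simp only [Nat.ble_eq] at h
    omega
  obtain ⟨g, hgW, hge⟩ := Fi23Plus.exists_W hp (by omega) (by omega)
  rw [h3, show Fi23Plus.rootC 3 = Fi23Plus.uR from rfl] at hge
  obtain ⟨l, hl, hle⟩ := B.exists_lift C hgW
  have huR : Fi23Plus.uR < 31671 := Fi23Plus.root_ok.2.2
  obtain ⟨hy1, hy1e⟩ := B.conj_com' C (inv_mem hl) hy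
  have hy1v : f (l⁻¹ * y * l⁻¹⁻¹) = Out23.tr ⟨Fi23Plus.uR, huR⟩ := by
    rw [hy1e, B.chart.isChart.map_inv (B.closure_le hl), hle, ← hpe, ← Out23.tr_hom]
    refine congrArg Out23.tr (Fin.ext ?_)
    rw [← Fi23Ord3.apt_of_lt _ hp]
    show apt g⁻¹ p = Fi23Plus.uR
    nth_rw 1 [← hge]
    rw [← Fi23Ord3.apt_mul, inv_mul_cancel, Fi23Ord3.apt_one]
  generalize l⁻¹ * y * l⁻¹⁻¹ = y1 at hy1 hy1v
  obtain ⟨hw, hc0, -, -⟩ := carry_ok
  have hwk : wok carryW = true := by
    rw [wok, List.all_eq_true]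
    intro y hy
    have := List.all_eq_true.1 hw y hy
    simp only [Bool.and_eq_true, Nat.ble_eq] at this
    exact Nat.blt_eq.mpr (by omega)
  obtain ⟨g1, hg1⟩ := Out23.tr_gpt (show 1 < 10 by norm_num)
  obtain ⟨hlt, hz⟩ := el_tr hwk (show 0 < 31671 by norm_num)
  rw [show Out23.tr (⟨0, show 0 < 31671 by norm_num⟩ : Fin 31671) = Fi23.z from Out23.tr_zero] at hz
  have hz1 : el carryW * Fi23.z * (el carryW)⁻¹ = gT 1 :=
    hz.trans ((FischerThree24.tr_congr hlt g1 hc0).trans hg1)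
  obtain ⟨k, hk, hke⟩ := B.exists_lift C (el_mem_W carryW hw)
  obtain ⟨hy2, hy2e⟩ := B.conj_com' C hk B.com
  rw [hke, B.fu, hz1] at hy2e
  have hne : y1 ≠ k * u * k⁻¹ := fun e => by
    rw [e, hy2e, ← hg1] at hy1v
    have h2 : cls (Out23.gpt 1) = 0 :=
      Nat.eq_of_beq_eq_true (allBelow_spec Fi23Plus.gpt_cls (show 0 < 9 by norm_num))
    rw [show Out23.gpt 1 = Fi23Plus.uR from congrArg Fin.val (Out23.tr_injective hy1v),
      Fi23Plus.root_ok.2.1] at h2
    omega
  have hcc : Commute (k * u * k⁻¹) y1 := by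
    refine (B.chart.isChart.comm _ hy2.1 y1 hy1.1).1 ?_
    rw [hy2e, hy1v]
    exact (commute_gen_iff (by norm_num) huR).2 root_near
  have hn : y1 ∈ Nb D (k * u * k⁻¹) := ⟨hy1.1.1, hne, hcc⟩
  obtain ⟨hy3, hy3e⟩ := B.conj_com' C (inv_mem hk) hy1
  have hn3 : k⁻¹ * y1 * k⁻¹⁻¹ ∈ Nb D u := by
    have := nb_conj C.group k⁻¹ hn
    rwa [show k⁻¹ * (k * u * k⁻¹) * k⁻¹⁻¹ = u by group] at this
  have h3' := (B.near_II ⟨hn3, hy3⟩).2.1
  rw [hy3e, B.chart.isChart.map_inv (B.closure_le hk), hke, hy1v, inv_inv] at h3'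
  have hgII : el carryW ∈ II := Fi23Plus.W_le_II (el_mem_W carryW hw)
  have h4 := mul_mem (mul_mem hgII h3') (inv_mem hgII)
  rw [show el carryW * ((el carryW)⁻¹ * Out23.tr ⟨Fi23Plus.uR, huR⟩ * el carryW) * (el carryW)⁻¹ =
    Out23.tr ⟨Fi23Plus.uR, huR⟩ by group, mem_II_iff, Fi23Plus.root_ok.2.1] at h4
  omega

/-- The joint centraliser is isomorphic to the group of the three classes. -/
theorem iso : Nonempty (↥(Subgroup.closure (Com D r b)) ≃* ↥II) := by
  haveI := Fi23.order_facts.1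
  have hmem : ∀ g ∈ Subgroup.closure (Com D r b), f g ∈ II := by
    intro g hg
    induction hg using Subgroup.closure_induction with
    | mem y hy => exact B.image_II C hy
    | one => rw [B.chart.isChart.map_one]; exact one_mem _
    | mul a c ha hc ea ec =>
      rw [B.chart.isChart.map_mul _ (B.closure_le ha) _ (B.closure_le hc)]; exact mul_mem ea ec
    | inv a ha ea => rw [B.chart.isChart.map_inv (B.closure_le ha)]; exact inv_mem ea
  let φ : ↥(Subgroup.closure (Com D r b)) →* ↥II := MonoidHom.mk' (fun x => ⟨f x, hmem x x.2⟩)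
    fun x y => Subtype.ext (B.chart.isChart.map_mul _ (B.closure_le x.2) _ (B.closure_le y.2))
  have hinj : Function.Injective φ := by
    refine (injective_iff_map_eq_one φ).2 fun x hx => ?_
    rcases (B.chart.ker_iff _ (B.closure_le x.2)).1 (congrArg Subtype.val hx) with e | e
    · exact Subtype.ext e
    exfalso
    have hz : x ∈ Subgroup.center ↥(Subgroup.closure (Com D r b)) :=
      Subgroup.mem_center_iff.2 fun y => Subtype.ext (by
        show (y : G) * (x : G) = (x : G) * (y : G)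
        rw [e]
        exact (commute_of_mem_closure_nb (B.closure_le y.2)).symm.eq)
    rw [C.center_pair B.far B.mem_r B.mem_b, Subgroup.mem_bot] at hz
    subst hz
    exact TSet.ne_one C.group.1 B.mem_r e.symm
  refine ⟨MulEquiv.ofBijective φ ((Nat.bijective_iff_injective_and_card _).2 ⟨hinj, ?_⟩)⟩
  rw [C.card_pair_cent B.far B.mem_r B.mem_b, C.card_com B.far B.mem_r B.mem_b, Fi23Plus.card_II]

end Base

end Cfsg.Agent.FischerClassTy.Plus
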