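import Cfsg.Agent.Lib.FischerClassTy.Frame23
import Cfsg.Agent.Lib.FischerClassTy.PlusPair

/-!
Fischer's theorem: a group in the induction with type M(23) at one member is of type M(24).
-/

set_option autoImplicit false

namespace Cfsg.Agent.FischerClassTy

open Cfsg Cfsg.Agent Cfsg.Agent.Fischer Cfsg.Agent.Fischer.Factor
open Cfsg.Agent.FischerUnique24 (Ctx Com)
open Cfsg.Agent.Fi23Plus (II J)

universe u

variable {G : Type u} [Group G] [Finite G] {D : Set G}

/-- The neighbour quotient of type M(23) forces type M(24). -/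
theorem step_m23 (hL : FischerClass.Loc D) {d : G} (hd : d ∈ D)
    (h : Cfsg.IsOfTypeM23 (Q D d) (img D d)) : Cfsg.IsOfTypeM24 G D := by
  have C : Ctx D (img D d) := (pre_of_loc hL hd h).ctx
  obtain ⟨u, b, f, B⟩ := Plus.exists_base C hd
  obtain ⟨e₀⟩ := B.iso C
  refine ⟨hL.cz, d, hd, b, B.mem_b, B.far, h, ?_⟩
  have hz : Subgroup.center ↥(Subgroup.closure (Com D d b)) = ⊥ := C.center_pair B.far hd B.mem_b
  let e : (↥(Subgroup.closure (Com D d b)) ⧸ Subgroup.center ↥(Subgroup.closure (Com D d b))) ≃* ↥II :=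
    ((QuotientGroup.quotientMulEquivOfEq hz).trans QuotientGroup.quotientBot).trans e₀
  haveI := Fi23Plus.J_normal
  obtain ⟨eJ⟩ := Fi23Plus.exists_J_iso
  haveI hN : ((J.subgroupOf II).map (MonoidHomClass.toMonoidHom e.symm)).Normal :=
    Subgroup.Normal.map inferInstance (MonoidHomClass.toMonoidHom e.symm) e.symm.surjective
  refine ⟨(J.subgroupOf II).map (MonoidHomClass.toMonoidHom e.symm), hN,
    ⟨(e.symm.subgroupMap (J.subgroupOf II)).symm.trans
      ((Subgroup.subgroupOfEquivOfLe Fi23Plus.J_le_II).trans eJ)⟩,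
    ⟨(QuotientGroup.congr _ _ e.symm rfl).symm.trans
      ((QuotientGroup.quotientMulEquivOfEq Fi23Plus.psi_ker.symm).trans
        (QuotientGroup.quotientKerEquivOfSurjective Fi23Plus.psi Fi23Plus.psi_surj))⟩⟩

/-- The field `m23` of the facts used by the induction. -/
theorem m23 : ∀ {G : Type u} [Group G] [Finite G] {D : Set G}, FischerClass.Loc D → ∀ d ∈ D,
    Cfsg.IsOfTypeM23 (Q D d) (img D d) → Cfsg.IsOfTypeM24 G D :=
  fun {_} _ _ {_} hL _ hd h => step_m23 hL hd h

end Cfsg.Agent.FischerClassTy
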