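import Cfsg.Agent.Lib.Fischer.SrgSquare

/-!
Strongly regular graphs given by their adjacency matrix: the integrality of the multiplicities, and
its consequence for the parameters (31671, 3510).
-/

set_option autoImplicit false
set_option maxRecDepth 100000

namespace Cfsg.Agent.FischerClassTy

open Matrix

/-- The discriminant times a square is the square of the trace term. -/
theorem srg_trace {V : Type*} [Fintype V] [DecidableEq V] [Nonempty V] {A : Matrix V V ℝ}
    {n : ℕ} {k l m : ℤ} (hn : Fintype.card V = n) (hrow : ∀ v, ∑ w, A v w = (k : ℝ))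
    (hcol : ∀ w, ∑ v, A v w = (k : ℝ)) (hdiag : ∀ v, A v v = 0)
    (hsq : A * A = ((k : ℝ) - m) • (1 : Matrix V V ℝ) + ((l : ℝ) - m) • A +
      (m : ℝ) • Matrix.of (fun _ _ => (1 : ℝ)))
    (hD : 0 < (l - m) ^ 2 + 4 * (k - m)) :
    ∃ q : ℤ, ((l - m) ^ 2 + 4 * (k - m)) * q ^ 2 = (2 * k + ((n : ℤ) - 1) * (l - m)) ^ 2 := by
  set J : Matrix V V ℝ := Matrix.of fun _ _ => (1 : ℝ) with hJ
  have hnR : (n : ℝ) ≠ 0 := by
    rw [← hn]
    exact_mod_cast Fintype.card_ne_zero
  have hAJ : A * J = (k : ℝ) • J := by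
    ext v w; simp [hJ, Matrix.mul_apply, hrow]
  have hJA : J * A = (k : ℝ) • J := by
    ext v w; simp [hJ, Matrix.mul_apply, hcol]
  have hJJ : J * J = (n : ℝ) • J := by
    ext v w; simp [hJ, Matrix.mul_apply, hn]
  have hkey : (k : ℝ) * k = ((k : ℝ) - m) + ((l : ℝ) - m) * k + (m : ℝ) * n := by
    have h1 : A * A * J = ((k : ℝ) * k) • J := by
      rw [Matrix.mul_assoc, hAJ, Matrix.mul_smul, hAJ, smul_smul]
    rw [hsq] at h1
    simp only [add_mul, smul_mul_assoc, one_mul, hAJ, hJJ, smul_smul] at h1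
    obtain ⟨v⟩ := ‹Nonempty V›
    have h2 := congrFun (congrFun h1 v) v
    simp [hJ] at h2
    linarith
  have hDR : (0 : ℝ) < (((l - m) ^ 2 + 4 * (k - m) : ℤ) : ℝ) := by exact_mod_cast hD
  set s : ℝ := Real.sqrt (((l - m) ^ 2 + 4 * (k - m) : ℤ) : ℝ) with hs
  have hs0 : 0 < s := Real.sqrt_pos.2 hDR
  have hs2 : s ^ 2 = ((l : ℝ) - m) ^ 2 + 4 * ((k : ℝ) - m) := by
    rw [hs, Real.sq_sqrt hDR.le]
    push_cast
    ring
  set c : ℝ := (2 * (k : ℝ) - ((l : ℝ) - m)) / n with hc
  have hcn : c * n = 2 * (k : ℝ) - ((l : ℝ) - m) := by rw [hc]; field_simp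
  set N : Matrix V V ℝ := (2 : ℝ) • A - ((l : ℝ) - m) • 1 - c • J with hN
  set P : Matrix V V ℝ := 1 - (n : ℝ)⁻¹ • J with hP
  have hcoef : 4 * (m : ℝ) - c * (2 * k - ((l : ℝ) - m)) = -(s ^ 2) * (n : ℝ)⁻¹ := by
    rw [hs2, hc]
    field_simp
    linear_combination -4 * hkey
  have hNN : N * N = s ^ 2 • P := by
    rw [hN, hP]
    simp only [sub_mul, mul_sub, smul_mul_assoc, mul_smul_comm, hsq, hAJ, hJA,
      hJJ, mul_one, one_mul, smul_smul, smul_add, smul_sub]
    match_scalars
    all_goals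
      first
      | ring1
      | linear_combination hcoef + c * hcn
      | linear_combination hs2
      | linear_combination -hs2
  have hNJ : N * J = 0 := by
    rw [hN]
    simp only [sub_mul, smul_mul_assoc, hAJ, hJJ, one_mul, smul_smul]
    match_scalars
    linear_combination -hcn
  have hJN : J * N = 0 := by
    rw [hN]
    simp only [mul_sub, mul_smul_comm, hJA, hJJ, mul_one, smul_smul]
    match_scalars
    linear_combination -hcn
  have hNP : N * P = N := by rw [hP, mul_sub, mul_one, mul_smul_comm, hNJ, smul_zero, sub_zero]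
  have hPN : P * N = N := by rw [hP, sub_mul, one_mul, smul_mul_assoc, hJN, smul_zero, sub_zero]
  have hPP : P * P = P := by
    rw [hP]
    simp only [sub_mul, mul_sub, one_mul, mul_one, smul_mul_assoc, mul_smul_comm, hJJ, smul_smul]
    match_scalars
    all_goals
      first
      | ring1
      | (field_simp; ring1)
      | field_simp
  set E : Matrix V V ℝ := (2 * s)⁻¹ • (N + s • P) with hE
  have hEE : E * E = E := by
    rw [hE]
    simp only [smul_mul_assoc, mul_smul_comm, add_mul, mul_add, hNN, hNP, hPN, hPP, smul_smul,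
      smul_add]
    match_scalars
    all_goals
      first
      | ring1
      | (field_simp; ring1)
      | field_simp
  obtain ⟨r, hr⟩ := Fischer.SrgSquare.trace_idempotent hEE
  have htA : A.trace = 0 := by simp [Matrix.trace, hdiag]
  have htJ : J.trace = (n : ℝ) := by simp [hJ, Matrix.trace, hn]
  have htE : (2 * s) * E.trace =
      -(2 * (k : ℝ) + ((n : ℝ) - 1) * ((l : ℝ) - m)) + s * ((n : ℝ) - 1) := by
    rw [hE, hN, hP]
    simp only [trace_smul, trace_add, trace_sub, htA, htJ, trace_one, smul_eq_mul, hn]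
    field_simp
    linear_combination -hcn
  rw [hr] at htE
  refine ⟨2 * (r : ℤ) - ((n : ℤ) - 1), ?_⟩
  have h1 : ((((l - m) ^ 2 + 4 * (k - m) : ℤ) : ℝ)) * (2 * (r : ℝ) - ((n : ℝ) - 1)) ^ 2 =
      (2 * (k : ℝ) + ((n : ℝ) - 1) * ((l : ℝ) - m)) ^ 2 := by
    rw [show (((l - m) ^ 2 + 4 * (k - m) : ℤ) : ℝ) = s ^ 2 by rw [hs2]; push_cast; ring,
      show (2 * (k : ℝ) + ((n : ℝ) - 1) * ((l : ℝ) - m)) = -(s * (2 * (r : ℝ) - ((n : ℝ) - 1))) by
        linarith]
    ring
  exact_mod_cast h1

/-- One candidate for the number of common neighbours of a far pair. -/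
def muOk (m : ℕ) : Bool :=
  !(Nat.beq (891855360 % m) 0) ||
    (let d := (if m ≤ 3510 then (3510 - m) ^ 2 else (m - 3510) ^ 2) + 4 * (31671 - m)
     let s := Nat.sqrt d
     let a := 2 * 31671 + (31671 + 891855360 / m) * 3510
     let b := (31671 + 891855360 / m) * m
     !(Nat.beq (s * s) d) || !(Nat.beq ((if b ≤ a then a - b else b - a) % s) 0) || Nat.beq m 3240)

theorem muOk_all : ((List.range 124).all fun i => (List.range 256).all fun j =>
    muOk (256 * i + j) || decide (256 * i + j = 0)) = true := by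
  decide +kernel

theorem muOk_of_le {m : ℕ} (h0 : 0 < m) (h : m ≤ 31671) : muOk m = true := by
  have h1 := List.all_eq_true.1 (List.all_eq_true.1 muOk_all (m / 256) (List.mem_range.2 (by omega)))
    (m % 256) (List.mem_range.2 (by omega))
  rw [Nat.div_add_mod, Bool.or_eq_true, decide_eq_true_eq] at h1
  exact h1.resolve_right h0.ne'

/-- The number of common neighbours of a far pair is determined. -/
theorem mu_eq {m o : ℕ} (hm : 0 < m) (hmk : m ≤ 31671) (hom : o * m = 891855360) {q : ℤ}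
    (h : ((3510 - (m : ℤ)) ^ 2 + 4 * (31671 - (m : ℤ))) * q ^ 2 =
      (2 * 31671 + ((31671 : ℤ) + o) * (3510 - (m : ℤ))) ^ 2) : m = 3240 := by
  have hdvd : 891855360 % m = 0 := by rw [← hom]; exact Nat.mul_mod_left o m
  have hdiv : 891855360 / m = o := by rw [← hom]; exact Nat.mul_div_cancel o hm
  set t : ℤ := 2 * 31671 + ((31671 : ℤ) + o) * (3510 - (m : ℤ)) with ht
  have ht0 : t ≠ 0 := by
    intro h0
    rw [ht] at h0
    have ho : 0 < o := by
      rcases Nat.eq_zero_or_pos o with rfl | ho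
      · simp at hom
      · exact ho
    have h1 : 3511 ≤ m := by
      by_contra h1
      have h3 : (0 : ℤ) ≤ ((31671 : ℤ) + o) * (3510 - (m : ℤ)) :=
        mul_nonneg (by positivity) (by omega)
      omega
    have h2 : (m : ℤ) = 3511 := by
      by_contra h2
      have : (2 : ℤ) ≤ (m : ℤ) - 3510 := by omega
      nlinarith [mul_le_mul_of_nonneg_left this (by positivity : (0 : ℤ) ≤ (31671 : ℤ) + o)]
    have h3 : m = 3511 := by exact_mod_cast h2
    subst h3
    omega
  have hcast : ((((if m ≤ 3510 then (3510 - m) ^ 2 else (m - 3510) ^ 2) + 4 * (31671 - m) : ℕ)) : ℤ) =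
      (3510 - (m : ℤ)) ^ 2 + 4 * (31671 - (m : ℤ)) := by
    split_ifs with h1
    · rw [Nat.cast_add, Nat.cast_pow, Nat.cast_mul, Nat.cast_sub h1, Nat.cast_sub hmk]
      rfl
    · rw [Nat.cast_add, Nat.cast_pow, Nat.cast_mul, Nat.cast_sub (by omega : 3510 ≤ m), Nat.cast_sub hmk]
      push_cast
      ring
  set d := (if m ≤ 3510 then (3510 - m) ^ 2 else (m - 3510) ^ 2) + 4 * (31671 - m) with hd
  rw [← hcast] at h
  obtain ⟨s, hs⟩ := Fischer.SrgSquare.exists_sqrt ht0 h
  have hsq : Nat.sqrt d = s := by rw [hs, Nat.sqrt_eq']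
  have hst : (s : ℤ) ∣ t := by
    rw [hs, Nat.cast_pow, ← mul_pow] at h
    exact (Int.pow_dvd_pow_iff two_ne_zero).1 (h ▸ pow_dvd_pow_of_dvd (dvd_mul_right (s : ℤ) q) 2)
  have hmod : ∀ a b : ℕ, (a : ℤ) - b = t → (if b ≤ a then a - b else b - a) % s = 0 := by
    intro a b hab
    refine Nat.mod_eq_zero_of_dvd (Int.natCast_dvd_natCast.1 ?_)
    split_ifs with h1
    · rwa [Nat.cast_sub h1, hab]
    · rw [Nat.cast_sub (by omega : a ≤ b), show (b : ℤ) - a = -t by omega]
      exact (dvd_neg).2 hst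
  have hok := muOk_of_le hm hmk
  have hm2 := hmod (2 * 31671 + (31671 + o) * 3510) ((31671 + o) * m) (by rw [ht]; push_cast; ring)
  have hss : s * s = d := by rw [hs]; ring
  rcases Bool.or_eq_true_iff.1 hok with h1 | h1
  · simp [hdvd] at h1
  · simp only [hdiv] at h1
    rw [← hd, hsq] at h1
    simp [hss, hm2] at h1
    exact h1

end Cfsg.Agent.FischerClassTy
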