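import Cfsg.Agent.Lib.FischerClass.Defs
import Cfsg.Agent.Lib.FischerUnique23.Unique
import Cfsg.Agent.Lib.Fi23Type.Type

/-!
Fischer's theorem: a neighbour quotient of type M(22) gives a group of type M(23).
-/

set_option autoImplicit false
set_option maxRecDepth 100000

namespace Cfsg.Agent.FischerClassTy

open Cfsg.Agent.CosetCert
open Cfsg.Agent.Fischer.Factor
open Cfsg.Agent.FischerUnique
open Cfsg.Agent.FischerUnique23
open Cfsg.Agent.Fi22Local
open Cfsg.Agent.FischerPresented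
open Cfsg.Agent.FischerClass (Std Loc)

local notation "FT" => CosetData.Fi23A.setup

universe u

variable {G : Type u} [Group G] [Finite G] {D : Set G}

/-- Non-commuting members of the quotient have a common partner. -/
theorem common_q (hL : Loc D) {d : G} (hd : d ∈ D) (h22 : Cfsg.IsOfTypeM22 (Q D d) (img D d)) :
    Common (img D d) := by
  have hT := hL.tg
  obtain ⟨-, f, hf, -, p, hp, q, hqn, hpq⟩ := m22_facts h22
  obtain ⟨F, hF, rfl⟩ := img_lift hf
  obtain ⟨P, hP, rfl⟩ := img_lift hp.1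
  obtain ⟨R, hR, rfl⟩ := img_lift hqn.1
  have hPR : ¬ Commute (P : G) (R : G) := fun h => hpq ((mk_commute_iff hT.1 hP.1 hR.1).2 h)
  exact common_img hT hL.prim hL.twinFree hP.1 hR.1 hd hF.1 hPR hF.2.1.symm hF.2.2 hP.2.2 hR.2.2
    ((mk_commute_iff hT.1 hF.1 hP.1).1 hp.2.2) ((mk_commute_iff hT.1 hF.1 hR.1).1 hqn.2.2) hd

/-- Labellings of the neighbours, labellings inside Fi22, and common neighbours in Fi22 and `G`. -/
theorem lab_of_loc (hL₀ : Loc D) {d : G} (hd : d ∈ D) (h22 : Cfsg.IsOfTypeM22 (Q D d) (img D d)) : (∀ t ∈ D, ∃ L, Lab D t L) ∧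
      (∀ z ∈ Fi22Class.D, Nonempty (View Fi22Class.D z)) ∧ Common Fi22Class.D ∧ Common D := by
  classical
  have hT := hL₀.tg
  have hprim := hL₀.prim
  have hfree : TwinFree D := fun d v hd hs => Fischer.prim_sameComm_trivial hT hprim hd hs
  have hTq := (hL₀.std_img hd).tg
  have hpq := (hL₀.std_img hd).prim
  have hcq := common_q hL₀ hd h22
  obtain ⟨Φ, hΦ⟩ := exists_iso hTq hpq h22
  have hΦ' : Φ.symm '' img D d = Fi22Class.D := by
    rw [← hΦ, ← Set.image_comp]
    exact (Set.image_congr fun x _ => Φ.symm_apply_apply x).trans (Set.image_id _)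
  have key : ∀ p, ∃ y : G, p < 3510 → ∃ h : y ∈ Nb D d,
      (QuotientGroup.mk ⟨y, nb_subset h⟩ : Q D d) = Φ (trN p) := fun p => by
    by_cases hp : p < 3510
    · obtain ⟨x, hx, e⟩ := img_lift (hΦ.le ⟨_, trN_mem hp, rfl⟩)
      exact ⟨x, fun _ => ⟨hx, e⟩⟩
    · exact ⟨1, fun h => absurd h hp⟩
  choose L hL using key
  have hinj : ∀ {x y : G} (hx : x ∈ Nb D d) (hy : y ∈ Nb D d),
      (QuotientGroup.mk ⟨x, nb_subset hx⟩ : Q D d) = QuotientGroup.mk ⟨y, nb_subset hy⟩ → x = y :=
    fun hx hy e => congrArg Subtype.val (img_inj hT hprim.1 hfree hd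
      (x := ⟨_, nb_subset hx⟩) (y := ⟨_, nb_subset hy⟩) hx hy e)
  have hlab : Lab D d L := by
    refine ⟨fun p hp => (hL p hp).1, fun y hy => ?_, fun p hp q hq e => ?_, fun p hp q hq => ?_,
      fun p hp q hq => ?_⟩
    · obtain ⟨w, hw, e⟩ := hΦ.ge ⟨⟨y, nb_subset hy⟩, hy, rfl⟩
      obtain ⟨p, hp, rfl⟩ := exists_trN hw
      obtain ⟨h, e'⟩ := hL p hp
      exact ⟨p, hp, hinj h hy (e'.trans e)⟩
    · obtain ⟨h, e1⟩ := hL p hp
      obtain ⟨h', e2⟩ := hL q hq
      refine trN_inj hp hq (Φ.injective ?_)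
      rw [← e1, ← e2]
      exact congrArg QuotientGroup.mk (Subtype.ext e)
    · obtain ⟨h, e1⟩ := hL p hp
      obtain ⟨h', e2⟩ := hL q hq
      refine Iff.trans (mk_commute_iff hT.1 (x := ⟨_, nb_subset h⟩) (y := ⟨_, nb_subset h'⟩) h.1 h'.1).symm ?_
      rw [e1, e2, tapp_self_iff hp hq]
      exact ⟨fun hc => by simpa using hc.map Φ.symm.toMonoidHom, fun hc => hc.map Φ.toMonoidHom⟩
    · obtain ⟨h, e1⟩ := hL p hp
      obtain ⟨h', e2⟩ := hL q hq
      obtain ⟨h'', e3⟩ := hL _ (tapp_lt hp hq)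
      have hc : L p * L q * (L p)⁻¹ ∈ Nb D d := by
        have := nb_conj hT (L p) h'
        rwa [Fischer.conj_eq_self_of_commute h.2.2.symm] at this
      refine hinj h'' hc ?_
      rw [e3, trN_tapp hp hq, map_mul, map_mul, map_inv, ← e1, ← e2]
      rfl
  have hV : ∀ z ∈ Fi22Class.D, Nonempty (View Fi22Class.D z) := by
    intro z hz
    obtain ⟨A⟩ := views hTq hpq h22 _ (hΦ.le ⟨z, hz, rfl⟩)
    exact ⟨Φ.symm_apply_apply z ▸ viewMap Φ.symm hΦ' A⟩
  have hc22 : Common Fi22Class.D := by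
    intro b hb y hy hby
    obtain ⟨r, hr, h1, h2⟩ := hcq _ (hΦ.le ⟨b, hb, rfl⟩) _ (hΦ.le ⟨y, hy, rfl⟩) fun h => hby (by
      simpa using h.map Φ.symm.toMonoidHom)
    refine ⟨Φ.symm r, hΦ'.le ⟨r, hr, rfl⟩, ?_, ?_⟩
    · simpa using h1.map Φ.symm.toMonoidHom
    · simpa using h2.map Φ.symm.toMonoidHom
  refine ⟨fun t ht' => ?_, hV, hc22, ?_⟩
  · obtain ⟨g, rfl⟩ := hprim.1 d hd t ht'
    refine ⟨fun p => g * L p * g⁻¹, fun p hp => nb_conj hT g (hlab.mem p hp), fun y hy => ?_,
      fun p hp q hq e => hlab.inj p hp q hq (mul_left_cancel (mul_right_cancel e)),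
      fun p hp q hq => (Fischer.commute_conj_iff g _ _).trans (hlab.comm p hp q hq), fun p hp q hq => ?_⟩
    · have hy' := nb_conj hT g⁻¹ hy
      rw [inv_inv, show g⁻¹ * (g * d * g⁻¹) * g = d by group] at hy'
      obtain ⟨p, hp, e⟩ := hlab.surj _ hy'
      exact ⟨p, hp, by show g * L p * g⁻¹ = y; rw [e]; group⟩
    · show g * L (tapp p q) * g⁻¹ = _
      rw [hlab.conj p hp q hq]; group
  · intro b hb y hy hby
    obtain ⟨g, hg⟩ := hprim.1 (L 0) (hlab.mem 0 (by norm_num)).1 b hb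
    have h2 : ¬ Commute (L 0) (L 2) := fun h =>
      absurd ((hlab.comm 0 (by norm_num) 2 (by norm_num)).1 h) (by decide +kernel)
    have hnc : ¬ Commute b (g * L 2 * g⁻¹) := fun h => h2 (by rwa [← hg, Fischer.commute_conj_iff] at h)
    obtain ⟨m, hm, hmy⟩ := Fischer.prim_trans_noncommuting hT hprim
      ⟨d, hd, L 0, (hlab.mem 0 (by norm_num)).1, (hlab.mem 0 (by norm_num)).2.1.symm,
        (hlab.mem 0 (by norm_num)).2.2⟩ hb
      (g * L 2 * g⁻¹) (hT.2.1 _ _ (hlab.mem 2 (by norm_num)).1) y hy hnc hby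
    have hmb : m * b * m⁻¹ = b :=
      Fischer.conj_eq_self_of_commute (Fischer.commute_of_mem_commClosure hm)
    refine ⟨m * g * d * (m * g)⁻¹, hT.2.1 _ _ hd, ?_, ?_⟩
    · rw [← hmb, ← hg, show m * (g * L 0 * g⁻¹) * m⁻¹ = m * g * L 0 * (m * g)⁻¹ by group]
      exact (Fischer.commute_conj_iff _ _ _).2 (hlab.mem 0 (by norm_num)).2.2
    · rw [← hmy, show m * (g * L 2 * g⁻¹) * m⁻¹ = m * g * L 2 * (m * g)⁻¹ by group]
      exact (Fischer.commute_conj_iff _ _ _).2 (hlab.mem 2 (by norm_num)).2.2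

/-- The configuration. -/
theorem config_of_loc (hL₁ : Loc D) {d : G} (hd : d ∈ D) (h22 : Cfsg.IsOfTypeM22 (Q D d) (img D d)) : ∃ t ∈ D, ∃ x ∈ D, ∃ L, Lab D t L ∧ ¬ Commute t x ∧
      Goal fun p => p < 3510 ∧ Commute x (L p) := by
  haveI := Fi22.order_facts.1
  have hT := hL₁.tg
  obtain ⟨hLab, hV, hc22, hcD⟩ := lab_of_loc hL₁ hd h22
  clear h22
  obtain ⟨L₀, hL₀⟩ := hLab d hd
  set t := L₀ 0
  set x := L₀ 2
  have ht : t ∈ D := (hL₀.mem 0 (by norm_num)).1
  have hx : x ∈ D := (hL₀.mem 2 (by norm_num)).1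
  have htx : ¬ Commute t x := fun h =>
    absurd ((hL₀.comm 0 (by norm_num) 2 (by norm_num)).1 h) (by decide +kernel)
  obtain ⟨a, ha, hat, hax⟩ := hcD t ht x hx htx
  have hatne : a ≠ t := fun e => htx (e ▸ hax)
  have haxne : a ≠ x := fun e => htx (e ▸ hat.symm)
  obtain ⟨L₁, hL₁⟩ := hLab t ht
  obtain ⟨p, hp, ep⟩ := hL₁.surj a ⟨ha, hatne, hat.symm⟩
  obtain ⟨g, hg⟩ := exists_to_zero hp
  obtain ⟨L, rfl⟩ : ∃ L, L = fun q => L₁ (apt g q) := ⟨_, rfl⟩
  have hL := hL₁.reindex g
  set L := fun q => L₁ (apt g q) with hLdef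
  have hL0 : L 0 = a := by show L₁ (apt g 0) = a; rw [hg, ep]
  obtain ⟨L', hL'⟩ := hLab a ha
  obtain ⟨u, hu, eu⟩ := hL'.surj t ⟨ht, hatne.symm, hat⟩
  obtain ⟨v, hv, ev⟩ := hL'.surj x ⟨hx, haxne.symm, hax⟩
  have hc : ∀ {p q : ℕ}, p < 3510 → q < 3510 → (Commute (L' p) (L' q) ↔ Commute (trN p) (trN q)) :=
    fun hp hq => (hL'.comm _ hp _ hq).trans (tapp_self_iff hp hq)
  have huv : ¬ Commute (trN u) (trN v) := fun h => htx (by rw [← eu, ← ev]; exact (hc hu hv).2 h)
  obtain ⟨W⟩ := hV _ (trN_mem hu)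
  obtain ⟨r, hr, hru, hrv⟩ := hc22 _ (trN_mem hu) _ (trN_mem hv) huv
  have hrU : r ∈ Nb Fi22Class.D (trN u) := ⟨hr, fun e => huv (e ▸ hrv), hru.symm⟩
  obtain ⟨g', hg', hpath⟩ := exists_path (isCommonSet D_group hV (trN_mem hu) (trN_mem hv) huv W)
    (comSet_toVec W hrU hrv.symm)
  have hsix : ∀ i < 6, ∃ z ∈ Nb Fi22Class.D (trN u), Commute (trN v) z ∧ ∃ k : RigidGraph.He.K4, k ≠ 0 ∧
      W.toVec z = k • g' (vec (pp i)) := by
    intro i hi
    obtain ⟨z, hz, hzc, k, hk, e⟩ := hpath i hi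
    exact ⟨z, hz, hzc, k⁻¹, inv_ne_zero hk, by rw [e, smul_smul, inv_mul_cancel₀ hk, one_smul]⟩
  choose! z hz hzc k hk ez using hsix
  have hzp : ∀ i, ∃ p, i < 6 → p < 3510 ∧ trN p = z i := fun i => by
    by_cases hi : i < 6
    · obtain ⟨p, hp, e⟩ := exists_trN (hz i hi).1
      exact ⟨p, fun _ => ⟨hp, e⟩⟩
    · exact ⟨0, fun h => absurd h hi⟩
  choose zp hzp using hzp
  have hzadj : ∀ i < 6, ∀ j < 6, i < j → (Commute (z i) (z j) ↔ adjP i j = false) ∧ z i ≠ z j := by
    intro i hi j hj hij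
    constructor
    · rw [W.comm _ (hz i hi) _ (hz j hj), ez i hi, ez j hj, hf_smul_left, hf_smul_right, hg']
      rw [mul_eq_zero, or_iff_right (hk i hi), mul_eq_zero,
        or_iff_right (fun h => hk j hj ((cj_eq_zero _).1 h)), ← orth_iff, pp_rel i hi j hj]
      simp
    · intro e
      have h1 := ez i hi
      rw [e, ez j hj, ← map_smul, ← map_smul] at h1
      have h2 := g'.injective h1
      have hind : ∀ i < 6, ∀ j < 6, i < j → indep (pp i) (pp j) = true := by decide +kernel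
      refine of_indep (pp_pt i hi).1 (hind i hi j hj hij) ((k i)⁻¹ * k j) ?_
      rw [mul_smul, h2, smul_smul, inv_mul_cancel₀ (hk i hi), one_smul]
      exact add_self' _
  -- back to the labels at `t`
  have hG : ∀ i, ∃ m, i < 6 → m < 3510 ∧ L m = L' (zp i) := fun i => by
    by_cases hi : i < 6
    · obtain ⟨hp, e⟩ := hzp i hi
      have h1 : Commute t (L' (zp i)) := by rw [← eu]; exact (hc hu hp).2 (e ▸ (hz i hi).2.2)
      have h2 : L' (zp i) ≠ t := fun h => (hz i hi).2.1 (by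
        rw [← e, hL'.inj _ hp _ hu (h.trans eu.symm)])
      obtain ⟨m, hm, em⟩ := hL.surj _ ⟨(hL'.mem _ hp).1, h2, h1⟩
      exact ⟨m, fun _ => ⟨hm, em⟩⟩
    · exact ⟨0, fun h => absurd h hi⟩
  choose m hm using hG
  obtain ⟨g'', hg0, f, hf, hfix⟩ := exists_path_kind m (fun i hi => by
      obtain ⟨h1, e⟩ := hm i hi
      refine ⟨h1, (hL.comm 0 (by norm_num) _ h1).1 ?_, fun e0 => (hL'.mem _ (hzp i hi).1).2.1 ?_⟩
      · rw [hL0, e]; exact (hL'.mem _ (hzp i hi).1).2.2
      · rw [← e, e0, hL0])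
    (fun i hi j hj hij => by
      obtain ⟨h1, e1⟩ := hm i hi
      obtain ⟨h2, e2⟩ := hm j hj
      obtain ⟨p1, q1⟩ := hzp i hi
      obtain ⟨p2, q2⟩ := hzp j hj
      obtain ⟨c1, c2⟩ := hzadj i hi j hj hij
      refine ⟨?_, fun e => c2 ?_⟩
      · rw [← hL.comm _ h1 _ h2, e1, e2, hc p1 p2, q1, q2]; exact c1
      · rw [← q1, ← q2, hL'.inj _ p1 _ p2 (by rw [← e1, ← e2, e])])
  have hM := hL.reindex g''⁻¹
  have hfx : ∀ i < 6, apt g''⁻¹ (f.getD i 0) = m i := fun i hi => by
    rw [← hfix i hi, ← apt_mul, inv_mul_cancel, apt_one]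
  have h00 : apt g''⁻¹ 0 = 0 := by
    conv_lhs => rw [← hg0]
    rw [← apt_mul, inv_mul_cancel, apt_one]
  have hR := rules_common hT hLab hV ht hx htx hM
  refine ⟨t, ht, x, hx, _, hM, htx, ?_⟩
  have h0 : Commute x (L (apt g''⁻¹ 0)) := by rw [h00, hL0]; exact hax.symm
  have hi : ∀ i < 6, f.getD i 0 < 3510 ∧ Commute x (L (apt g''⁻¹ (f.getD i 0))) := fun i hi => by
    obtain ⟨h1, e⟩ := hm i hi
    obtain ⟨hp, eq⟩ := hzp i hi
    refine ⟨by rw [← hfix i hi]; exact apt_lt _ h1, ?_⟩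
    rw [hfx i hi, e, ← ev]
    exact (hc hv hp).2 (eq ▸ hzc i hi)
  have hst : ∀ l : List ℕ, l = f → Holds (fun p => p < 3510 ∧ Commute x (L (apt g''⁻¹ p))) (0 :: f, []) := by
    intro l _
    refine ⟨fun a ha => ?_, fun a h => absurd h List.not_mem_nil⟩
    rcases List.mem_cons.1 ha with rfl | ha
    · exact ⟨by norm_num, h0⟩
    obtain ⟨i, hlt, rfl⟩ := List.getElem_of_mem ha
    have hlen : f.length = 6 := by
      simp only [finals, List.mem_cons, List.not_mem_nil, or_false] at hf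
      rcases hf with rfl | rfl | rfl <;> rfl
    have := hi i (by omega)
    rwa [List.getD_eq_getElem?_getD, List.getElem?_eq_getElem hlt, Option.getD_some] at this
  have hst' := hst f rfl
  simp only [finals, List.mem_cons, List.not_mem_nil, or_false] at hf
  rcases hf with rfl | rfl | rfl
  · exact chk_sound hR tree0 tree0_ok hst'
  · exact chk_sound hR tree1 tree1_ok hst'
  · exact chk_sound hR tree2 tree2_ok hst'

/-- A group whose neighbour quotient is of type M(22) is Fi23 with its class of transpositions. -/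
theorem iso_of_loc (hL₁ : Loc D) {d : G} (hd : d ∈ D) (h22 : Cfsg.IsOfTypeM22 (Q D d) (img D d)) : ∃ Φ : Setup.G FT ≃* G, Φ '' Fi23.D = D := by
  have hT := hL₁.tg
  have hprim := hL₁.prim
  obtain ⟨t, ht, x, hx, L, hL, htx, i₀, hi₀, h8, h6⟩ := config_of_loc hL₁ hd h22
  obtain ⟨N, gs, hN, hNi⟩ : ∃ N gs, nineB' N gs = true ∧ N = nine i₀ := by
    interval_cases i₀
    · exact ⟨nineA, genA, nine_ok.1, rfl⟩
    · exact ⟨nineB, genB, nine_ok.2, rfl⟩
  have hN' := hN
  simp only [nineB', Bool.and_eq_true, List.all_eq_true, List.mem_range, Nat.blt_eq, Nat.beq_eq] at hN'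
  obtain ⟨⟨⟨⟨hrel, hw1⟩, hlen⟩, -⟩, -⟩ := hN'
  subst hNi
  set N := nine i₀
  have hlt : ∀ i, N.getD i 0 < 3510 := fun i => by
    by_cases hi : i < 9
    · exact (hrel i hi).1
    · rw [List.getD_eq_getElem?_getD, List.getElem?_eq_none (by omega)]; norm_num
  have hT6 : ¬ Commute x (L (N.getD 6 0)) := fun h => h6 ⟨hlt 6, h⟩
  let f : ℕ → G := fun i => if i = 9 then x else L (N.getD i 0)
  have hf : ∀ i < 9, f i = L (N.getD i 0) := fun i hi => if_neg (by omega)
  have hf9 : f 9 = x := if_pos rfl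
  have hfD : ∀ i, f i ∈ D := fun i => by
    show (if i = 9 then x else L (N.getD i 0)) ∈ D
    split
    · exact hx
    · exact (hL.mem _ (hlt i)).1
  have hinv : ∀ i, f i * f i = 1 := fun i => Fischer.TSet.sq hT.1 (hfD i)
  have hLinv : ∀ p < 3510, L p * L p = 1 := fun p hp => Fischer.TSet.sq hT.1 (hL.mem p hp).1
  -- relations of pairs
  have hpair : ∀ i < 10, ∀ j < 10, i ≠ j → (Commute (f i) (f j) ↔ edge10 i j = false) ∧ f i ≠ f j := by
    intro i hi j hj hij
    rcases (by omega : i = 9 ∨ i < 9) with rfl | hi'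
    · obtain hj' : j < 9 := by omega
      rw [hf9, hf j hj']
      refine ⟨?_, fun e => htx (e ▸ (hL.mem _ (hlt j)).2.2)⟩
      by_cases h : j = 6
      · subst h; exact ⟨fun h => absurd h hT6, fun h => absurd h (by decide)⟩
      · exact ⟨fun _ => by
          have : edgeB 9 j = false := by
            have hall : ((List.range 9).all fun j => !edgeB 9 j && !edgeB j 9) = true := by decide +kernel
            simp only [List.all_eq_true, List.mem_range, Bool.and_eq_true, Bool.not_eq_true'] at hall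
            exact (hall j hj').1
          simp [edge10, this, show Nat.beq j 6 = false from Bool.eq_false_iff.2 fun e => h (Nat.eq_of_beq_eq_true e),
            show Nat.beq 9 6 = false from rfl], fun _ => (h8 j hj' h).2⟩
    rcases (by omega : j = 9 ∨ j < 9) with rfl | hj'
    · rw [hf9, hf i hi']
      refine ⟨?_, fun e => htx (e ▸ (hL.mem _ (hlt i)).2.2)⟩
      by_cases h : i = 6
      · subst h; exact ⟨fun h => absurd h.symm hT6, fun h => absurd h (by decide)⟩
      · exact ⟨fun _ => by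
          have : edgeB i 9 = false := by
            have hall : ((List.range 9).all fun j => !edgeB 9 j && !edgeB j 9) = true := by decide +kernel
            simp only [List.all_eq_true, List.mem_range, Bool.and_eq_true, Bool.not_eq_true'] at hall
            exact (hall i hi').2
          simp [edge10, this, show Nat.beq i 6 = false from Bool.eq_false_iff.2 fun e => h (Nat.eq_of_beq_eq_true e),
            show Nat.beq 9 6 = false from rfl], fun _ => (h8 i hi' h).2.symm⟩
    rw [hf i hi', hf j hj']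
    have h := ((hrel i hi').2 j hj')
    simp only [Bool.or_eq_true, Nat.beq_eq, hij, false_or, Bool.and_eq_true, Bool.not_eq_true',
      beq_iff_eq] at h
    refine ⟨?_, fun e => ?_⟩
    · have he : edge10 i j = edgeB i j := by
        simp [edge10, show Nat.beq i 9 = false from Bool.eq_false_iff.2 fun e => by have := Nat.eq_of_beq_eq_true e; omega,
        show Nat.beq j 9 = false from Bool.eq_false_iff.2 fun e => by have := Nat.eq_of_beq_eq_true e; omega]
      rw [hL.comm _ (hlt i) _ (hlt j), he, h.2, Bool.not_eq_false', Nat.beq_eq]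
    · have := hL.inj _ (hlt i) _ (hlt j) e
      rw [this] at h
      simp at h
  have hgenD : ∀ k : G, Commute k t → Commute k x → (∀ p < 3510, Commute k (L p)) → k = 1 := by
    intro k k1 k2 k3
    have hcl : ∀ g ∈ Fischer.commClosure D t, Commute k g := by
      intro g hg
      unfold Fischer.commClosure at hg
      induction hg using Subgroup.closure_induction with
      | mem y hy =>
        by_cases e : y = t
        · exact e ▸ k1
        · obtain ⟨p, hp, rfl⟩ := hL.surj y ⟨hy.1, e, hy.2⟩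
          exact k3 p hp
      | one => exact Commute.one_right k
      | mul a b _ _ h1 h2 => exact h1.mul_right h2
      | inv a _ h1 => exact h1.inv_right
    have : k ∈ Subgroup.center G := Fischer.mem_center_of_commute_gen hT.2.2 fun y hy => by
      by_cases hc : Commute t y
      · exact hcl y (Subgroup.subset_closure ⟨hy, hc⟩)
      obtain ⟨g, hg, rfl⟩ := Fischer.prim_trans_noncommuting hT hprim
        ⟨t, ht, L 0, (hL.mem 0 (by norm_num)).1, (hL.mem 0 (by norm_num)).2.1.symm,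
          (hL.mem 0 (by norm_num)).2.2⟩ ht x hx y hy htx hc
      exact ((hcl g hg).mul_right k2).mul_right (hcl g hg).inv_right
    rwa [hL₁.cz, Subgroup.mem_bot] at this
  -- the words among the nine
  have hword : ∀ w : List ℕ, sameW (flatW N w) [] = true →
      ∀ p < 3510, Commute (wprod (fun i => L (N.getD i 0)) w) (L p) := by
    intro w hw p hp
    have h := wprod_act hL N hlt w hp
    rw [el_eq hw, el_nil, apt_one] at h
    exact (eq_mul_inv_iff_mul_eq.1 h).symm
  have hextra : ∀ w ∈ extras, wprod f w = 1 := by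
    intro w hw
    have hl := List.all_eq_true.1 extras_letters w hw
    simp only [List.all_eq_true, Bool.and_eq_true, Nat.blt_eq, Bool.not_eq_true'] at hl
    rw [wprod_congr (g := fun i => L (N.getD i 0)) fun i hi => hf i (hl i hi).1]
    refine hgenD _ ?_ ?_ (hword w (hw1 w (List.mem_append_left _ hw)))
    · clear hw hl
      induction w with
      | nil => rw [wprod_nil]; exact Commute.one_left t
      | cons i w ih => rw [wprod_cons]; exact ((hL.mem _ (hlt i)).2.2.symm).mul_left ih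
    · clear hw
      induction w with
      | nil => rw [wprod_nil]; exact Commute.one_left x
      | cons i w ih =>
        rw [wprod_cons]
        refine ((h8 i (hl i List.mem_cons_self).1 ?_).2.symm).mul_left
          (ih fun j hj => hl j (List.mem_cons_of_mem _ hj))
        intro e; have := (hl i List.mem_cons_self).2; rw [e] at this; simp at this
  have hb : ∀ w ∈ CosetData.Fi23A.base, wprod f w = 1 := by
    intro w hw
    have := List.all_eq_true.1 base_shape w hw
    simp only [Bool.or_eq_true, List.any_eq_true, Bool.and_eq_true, List.mem_range,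
      Bool.not_eq_true'] at this
    rcases this with ⟨u, hu, e⟩ | ⟨i, hi, j, hj, hij, e⟩
    · rw [eq_of_wordEq e]; exact hextra u hu
    · have hij' : i ≠ j := fun e => by rw [e] at hij; simp at hij
      rw [eq_of_wordEq e, wprod_rep, wprod_cons, wprod_cons, wprod_nil, mul_one]
      cases he : edge10 i j with
      | false => rw [cond_false]
                 exact (Fischer.commute_iff_sq_eq_one (hinv i) (hinv j)).1 ((hpair i hi j hj hij').1.2 he)
      | true => rw [cond_true]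
                exact Fischer.TSet.cube hT.1 (hfD i) (hfD j) fun hc => by
                  rw [(hpair i hi j hj hij').1.1 hc] at he; exact Bool.noConfusion he
  obtain ⟨ψ, hψ⟩ := exists_hom_fin FT f hinv hb
  have hψ' : ∀ i < 10, ψ (Setup.gen FT i) = f i := hψ
  have := Fi23.isSimpleGroup
  have hψinj : Function.Injective ψ := by
    rw [← MonoidHom.ker_eq_bot_iff]
    refine (MonoidHom.normal_ker ψ).eq_bot_or_eq_top.resolve_right fun htop => ?_
    refine Fischer.TSet.ne_one hT.1 (hfD 0) ?_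
    rw [← hψ' 0 (by norm_num), MonoidHom.ker_eq_top_iff.1 htop]; rfl
  have hzD : ψ Fi23.z ∈ D := by
    rw [Fi23.z_eq, map_mul, map_mul, map_inv, hψ' 0 (by norm_num)]
    exact hT.2.1 _ _ (hfD 0)
  have hzL : ∀ p < 3510, Commute (ψ Fi23.z) (L p) :=
    all_labels hL hN (Commute (ψ Fi23.z)) (fun a b ha hb => (ha.mul_right hb).mul_right ha.inv_right) hLinv
      fun i hi => by
        rw [← hf i hi, ← hψ' i (by omega)]
        exact (show Commute Fi23.z (Setup.gen FT i) from Fi23.z_comm i hi).map ψ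
  have hzt : ψ Fi23.z = t := by
    by_contra hne
    by_cases hc : Commute t (ψ Fi23.z)
    · obtain ⟨q, hq, e⟩ := hL.surj _ ⟨hzD, hne, hc⟩
      obtain ⟨g, hg⟩ := exists_to_zero hq
      have h2 : apt g 2 < 3510 := apt_lt g (by norm_num)
      have := (hL.comm _ h2 _ hq).1 (e ▸ (hzL _ h2)).symm
      rw [← hg, ← apt_tapp g (by norm_num) (by norm_num)] at this
      exact absurd (apt_injective g this) (by decide +kernel)
    obtain ⟨m, hm, hmx⟩ := Fischer.prim_trans_noncommuting hT hprim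
      ⟨t, ht, L 0, (hL.mem 0 (by norm_num)).1, (hL.mem 0 (by norm_num)).2.1.symm,
        (hL.mem 0 (by norm_num)).2.2⟩ ht (ψ Fi23.z) hzD x hx hc htx
    refine hT6 ?_
    have hy := nb_conj hT m⁻¹ (hL.mem _ (hlt 6))
    rw [inv_inv, show m⁻¹ * t * m = t by
      rw [mul_assoc, (Fischer.commute_of_mem_commClosure hm).symm.eq, inv_mul_cancel_left]] at hy
    obtain ⟨p, hp, e⟩ := hL.surj _ hy
    rw [← hmx, show L (N.getD 6 0) = m * L p * m⁻¹ by rw [e]; group]
    exact (Fischer.commute_conj_iff m _ _).2 (hzL p hp)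
  have htR : t ∈ ψ.range := ⟨_, hzt⟩
  have hLR : ∀ p < 3510, L p ∈ ψ.range :=
    all_labels hL hN (· ∈ ψ.range) (fun a b ha hb => mul_mem (mul_mem ha hb) (inv_mem ha)) hLinv
      fun i hi => ⟨_, (hψ' i (by omega)).trans (hf i hi)⟩
  have hK : ∀ g ∈ Fischer.commClosure D t, g ∈ ψ.range := by
    intro g hg
    unfold Fischer.commClosure at hg
    induction hg using Subgroup.closure_induction with
    | mem y hy =>
      by_cases e : y = t
      · exact e ▸ htR
      · obtain ⟨p, hp, rfl⟩ := hL.surj y ⟨hy.1, e, hy.2⟩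
        exact hLR p hp
    | one => exact one_mem _
    | mul a b _ _ h1 h2 => exact mul_mem h1 h2
    | inv a _ h1 => exact inv_mem h1
  have hxR : x ∈ ψ.range := ⟨_, (hψ' 9 (by norm_num)).trans hf9⟩
  have hD : D ⊆ ψ.range := by
    intro y hy
    by_cases hc : Commute t y
    · exact hK y (Subgroup.subset_closure ⟨hy, hc⟩)
    obtain ⟨g, hg, rfl⟩ := Fischer.prim_trans_noncommuting hT hprim
      ⟨t, ht, L 0, (hL.mem 0 (by norm_num)).1, (hL.mem 0 (by norm_num)).2.1.symm,
        (hL.mem 0 (by norm_num)).2.2⟩ ht x hx y hy htx hc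
    exact mul_mem (mul_mem (hK g hg) hxR) (inv_mem (hK g hg))
  have hsurj : Function.Surjective ψ := by
    rw [← MonoidHom.range_eq_top, eq_top_iff, ← hT.2.2, Subgroup.closure_le]
    exact hD
  refine ⟨MulEquiv.ofBijective ψ ⟨hψinj, hsurj⟩, ?_⟩
  refine Set.Subset.antisymm ?_ fun y hy => ?_
  · rintro _ ⟨w, hw, rfl⟩
    obtain ⟨g, rfl⟩ := Fi23.mem_D.1 hw
    show ψ _ ∈ D
    rw [map_mul, map_mul, map_inv, hzt]
    exact hT.2.1 _ _ ht
  · obtain ⟨g, hg⟩ := hprim.1 t ht y hy
    obtain ⟨g', rfl⟩ := hsurj g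
    refine ⟨g' * Fi23.z * g'⁻¹, Fi23.mem_D.2 ⟨g', rfl⟩, ?_⟩
    show ψ _ = y
    rw [map_mul, map_mul, map_inv, hzt, hg]

/-- A neighbour quotient of type M(22) gives type M(23). -/
theorem m22 (hL : Loc D) (d : G) (hd : d ∈ D) (h22 : Cfsg.IsOfTypeM22 (Q D d) (img D d)) :
    Cfsg.IsOfTypeM23 G D := by
  obtain ⟨Φ, hΦ⟩ := iso_of_loc hL hd h22
  exact Fi23Type.type_m23 Φ hΦ

end Cfsg.Agent.FischerClassTy
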