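import Cfsg.Agent.Lib.FischerClass.Kinds
import Cfsg.Agent.Lib.FischerClass.Graph
import Cfsg.Agent.Lib.FischerUnique.Unique
import Cfsg.Agent.Lib.Fi22Type.Type

/-!
Fischer's theorem: six-dimensional unitary neighbourhoods give a group of type M(22).
-/

set_option autoImplicit false
set_option maxRecDepth 100000

namespace Cfsg.Agent.FischerClassTy

open Cfsg.Agent.CosetCert
open Cfsg.Agent.RigidGraph.He
open Cfsg.Agent.Fischer.Factor
open Cfsg.Agent.FischerUnique

local notation "FS" => CosetData.Fi22B.setup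

universe u

variable {G : Type u} [Group G] [Finite G] {D : Set G}

/-- Views at every member give the presented group. -/
theorem iso_of_views (hT : Cfsg.IsThreeTranspositionGroup D) (hprim : Cfsg.IsPrimitiveUnderConj D)
    (hz₀ : Subgroup.center G = ⊥) (hV : ∀ z ∈ D, Nonempty (View D z)) :
    ∃ Φ : Setup.G FS ≃* G, Φ '' FischerPresented.Fi22Class.D = D := by
  obtain ⟨d, hd, -⟩ := hprim.2.1
  obtain ⟨f, h⟩ := exists_nine hT hV ⟨d, hd⟩
  let f' : ℕ → G := fun i => if i < 9 then f i else f 0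
  have hf' : ∀ i < 9, f' i = f i := fun i hi => if_pos hi
  have h' : Nine D f' := ⟨fun i hi => hf' i hi ▸ h.mem i hi,
    fun i hi j hj hij => by rw [hf' i hi, hf' j hj]; exact h.rel i hi j hj hij,
    fun i hi j hj hij => by rw [hf' i hi, hf' j hj]; exact h.ne i hi j hj hij⟩
  have hinv : ∀ i, f' i * f' i = 1 := fun i => by
    refine Fischer.TSet.sq hT.1 ?_
    by_cases hi : i < 9
    · exact h'.mem i hi
    · show (if i < 9 then f i else f 0) ∈ D
      rw [if_neg hi]; exact h.mem 0 (by norm_num)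
  have hb : ∀ w ∈ CosetData.Fi22B.base, wprod f' w = 1 := by
    intro w hw
    have := List.all_eq_true.1 base_ok w hw
    simp only [Bool.or_eq_true, List.any_eq_true, Bool.and_eq_true, List.mem_range,
      Bool.not_eq_true'] at this
    rcases this with ⟨u, hu, e⟩ | ⟨i, hi, j, hj, hij, e⟩
    · rw [eq_of_wordEq e]
      have hc := central_of_nine hT hprim hV h' (relator_commutes hT hV h' u hu)
      rw [hz₀, Subgroup.mem_bot] at hc
      exact hc
    · rw [eq_of_wordEq e, wprod_rep, wprod_cons, wprod_cons, wprod_nil, mul_one]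
      have hij' : i ≠ j := fun e => by rw [e] at hij; simp at hij
      cases he : edgeB i j with
      | false =>
        rw [cond_false]
        exact (Fischer.commute_iff_sq_eq_one (hinv i) (hinv j)).1 ((h'.rel i hi j hj hij').2 he)
      | true =>
        rw [cond_true]
        exact Fischer.TSet.cube hT.1 (h'.mem i hi) (h'.mem j hj) fun hc => by
          rw [(h'.rel i hi j hj hij').1 hc] at he; exact Bool.noConfusion he
  obtain ⟨ψ, hψ⟩ := exists_hom_fin FS f' hinv hb
  have hψ' : ∀ i < 9, ψ (Setup.gen FS i) = f' i := hψ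
  have hz : ψ FischerPresented.Fi22Class.z = f' 0 := hψ' 0 (by norm_num)
  have := FischerPresented.Fi22.isSimpleGroup
  have hinj : Function.Injective ψ := by
    rw [← MonoidHom.ker_eq_bot_iff]
    refine (MonoidHom.normal_ker ψ).eq_bot_or_eq_top.resolve_right fun htop => ?_
    refine Fischer.TSet.ne_one hT.1 (h'.mem 0 (by norm_num)) ?_
    rw [← hz, MonoidHom.ker_eq_top_iff.1 htop]; rfl
  have hDsub : ∀ x ∈ FischerPresented.Fi22Class.D, ψ x ∈ D := by
    intro x hx
    obtain ⟨g, rfl⟩ := FischerPresented.Fi22Class.mem_D.1 hx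
    rw [map_mul, map_mul, map_inv, hz]
    exact hT.2.1 _ _ (h'.mem 0 (by norm_num))
  obtain ⟨P⟩ := nonempty_placed hV h'
  have hnb : ψ '' Nb FischerPresented.Fi22Class.D FischerPresented.Fi22Class.z = Nb D (f' 0) := by
    obtain ⟨hfin, hle⟩ := P.view.card_nb
    refine Set.eq_of_subset_of_ncard_le ?_ ?_ hfin
    · rintro _ ⟨x, ⟨hx, hne, hc⟩, rfl⟩
      exact ⟨hDsub x hx, fun e => hne (hinj (e.trans hz.symm)), hz ▸ hc.map ψ⟩
    · rw [Set.ncard_image_of_injective _ hinj]
      exact hle.trans card_nb_presented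
  have hK : ∀ g ∈ Fischer.commClosure D (f' 0), g ∈ ψ.range := by
    intro g hg
    unfold Fischer.commClosure at hg
    induction hg using Subgroup.closure_induction with
    | mem x hx =>
      by_cases e : x = f' 0
      · exact ⟨_, hz.trans e.symm⟩
      · obtain ⟨y, -, rfl⟩ := hnb.ge ⟨hx.1, e, hx.2⟩
        exact ⟨y, rfl⟩
    | one => exact one_mem _
    | mul x z _ _ h1 h2 => exact mul_mem h1 h2
    | inv x _ h1 => exact inv_mem h1
  have hD : D ⊆ ψ.range := by
    intro x hx
    by_cases hc : Commute (f' 0) x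
    · exact hK x (Subgroup.subset_closure ⟨hx, hc⟩)
    obtain ⟨g, hg, rfl⟩ := Fischer.prim_trans_noncommuting hT hprim
      ⟨f' 0, h'.mem 0 (by norm_num), f' 2, h'.mem 2 (by norm_num),
        h'.ne 0 (by norm_num) 2 (by norm_num) (by norm_num),
        (h'.rel 0 (by norm_num) 2 (by norm_num) (by norm_num)).2 (by decide)⟩
      (h'.mem 0 (by norm_num)) (f' 1) (h'.mem 1 (by norm_num)) x hx
      (by rw [h'.rel 0 (by norm_num) 1 (by norm_num) (by norm_num)]; decide) hc
    exact mul_mem (mul_mem (hK g hg) ⟨_, hψ' 1 (by norm_num)⟩) (inv_mem (hK g hg))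
  have hsurj : Function.Surjective ψ := by
    rw [← MonoidHom.range_eq_top, eq_top_iff, ← hT.2.2, Subgroup.closure_le]
    exact hD
  refine ⟨MulEquiv.ofBijective ψ ⟨hinj, hsurj⟩, ?_⟩
  refine Set.Subset.antisymm (Set.image_subset_iff.2 hDsub) fun x hx => ?_
  obtain ⟨g, hg⟩ := hprim.1 (f' 0) (h'.mem 0 (by norm_num)) x hx
  obtain ⟨g', rfl⟩ := hsurj g
  refine ⟨g' * FischerPresented.Fi22Class.z * g'⁻¹, FischerPresented.Fi22Class.mem_D.2 ⟨g', rfl⟩, ?_⟩
  show ψ _ = x
  rw [map_mul, map_mul, map_inv, hz, hg]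

/-- The step for the six-dimensional unitary group. -/
theorem u_six (hL : FischerClass.Loc D) {d : G} (hd : d ∈ D) (h : FischerClass.IsUn (img D d) 6) :
    Cfsg.IsOfTypeM22 G D := by
  obtain ⟨e, -⟩ := h
  obtain ⟨ψ⟩ := nonempty_psu_model (F := K4) K4.card_K4
  have hV : ∀ z ∈ D, Nonempty (View D z) := fun z hz => by
    obtain ⟨f, -⟩ := FischerClass.exists_img_equiv hL.tg hL.trans hz hd
    exact nonempty_view hL.tg hL.trans hL.twinFree hz (f.trans (e.trans ψ))
  obtain ⟨Φ, hΦ⟩ := iso_of_views hL.tg hL.prim hL.cz hV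
  exact Fi22Type.type_m22 Φ hΦ

end Cfsg.Agent.FischerClassTy
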