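import Cfsg.Agent.Lib.FischerClass.Charts
import Cfsg.Agent.Lib.FischerClassTy.Pre
import Cfsg.Agent.Lib.FischerClassTy.SrgTrace

/-!
The order of the joint centraliser of a far pair in a group locally of type M(23): the commuting graph
is strongly regular with first parameters 31671 and 3510, so two far members have 3240 common
neighbours.
-/

set_option autoImplicit false

namespace Cfsg.Agent.FischerClassTy

open Cfsg.Agent.Fischer
open Cfsg.Agent.Fischer.Factor
open Cfsg.Agent.FischerUnique24 (Is23 IsChart Hd Far Com double_count)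
open Matrix

universe u v

variable {G : Type u} {X : Type v} [Group G] [Group X] [Finite G] [Finite X] {D : Set G} {D1 : Set X}

namespace Pre

variable (C : Pre D D1)
include C

theorem ncard_com_eq {a b p q : G} (hab : ¬ Commute a b) (ha : a ∈ D) (hb : b ∈ D) (hpq : ¬ Commute p q)
    (hp : p ∈ D) (hq : q ∈ D) : (Com D a b).ncard = (Com D p q).ncard := by
  obtain ⟨g, hga, hgb⟩ := C.trans_far ha hb hab hp hq hpq
  rw [← Set.ncard_image_of_injective (Com D a b) (f := fun x => g * x * g⁻¹)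
    fun x y e => mul_left_cancel (mul_right_cancel e)]
  congr 1
  refine Set.Subset.antisymm ?_ (fun y hy => ⟨g⁻¹ * y * g, ⟨?_, ?_⟩, by group⟩)
  · rintro _ ⟨y, hy, rfl⟩
    exact ⟨hga ▸ nb_conj C.group g hy.1, hgb ▸ nb_conj C.group g hy.2⟩
  · have := nb_conj C.group g⁻¹ hy.1
    rwa [inv_inv, show g⁻¹ * p * g = a by rw [← hga]; group] at this
  · have := nb_conj C.group g⁻¹ hy.2
    rwa [inv_inv, show g⁻¹ * q * g = b by rw [← hgb]; group] at this

/-- The count of the far members times the common neighbours of a far pair. -/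
theorem far_mul {a b : G} (hab : ¬ Commute a b) (ha : a ∈ D) (hb : b ∈ D) :
    {y | y ∈ D ∧ ¬ Commute a y}.ncard * (Com D a b).ncard = 891855360 := by
  have hk : ∀ s ∈ Nb D a, {y | y ∈ {y | y ∈ D ∧ ¬ Commute a y} ∧ y ∈ Nb D s}.ncard = 28160 := by
    intro s hs
    have h1 : insert a (Nb D a ∩ Nb D s) ∪ {y | y ∈ {y | y ∈ D ∧ ¬ Commute a y} ∧ y ∈ Nb D s} = Nb D s := by
      refine Set.Subset.antisymm ?_ fun b hb => ?_
      · rintro b ((rfl | hb) | hb)
        exacts [⟨ha, hs.2.1.symm, hs.2.2.symm⟩, hb.2, hb.2]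
      · by_cases hc : Commute a b
        · by_cases e : b = a
          exacts [Or.inl (Or.inl e), Or.inl (Or.inr ⟨⟨hb.1, e, hc⟩, hb⟩)]
        · exact Or.inr ⟨⟨hb.1, hc⟩, hb⟩
    have hd : Disjoint (insert a (Nb D a ∩ Nb D s))
        {y | y ∈ {y | y ∈ D ∧ ¬ Commute a y} ∧ y ∈ Nb D s} := by
      rw [Set.disjoint_left]
      rintro y (rfl | hy) hy'
      exacts [hy'.1.2 (Commute.refl _), hy'.1.2 hy.1.2.2]
    have := C.card_nb hs.1
    rw [← h1, Set.ncard_union_eq hd, Set.ncard_insert_of_notMem (fun e => e.1.2.1 rfl),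
      C.card_edge ha hs] at this
    omega
  have hm : ∀ y ∈ {y | y ∈ D ∧ ¬ Commute a y},
      {s | s ∈ Nb D a ∧ y ∈ Nb D s}.ncard = (Com D a b).ncard := by
    rintro y ⟨hy, hay⟩
    rw [C.ncard_com_eq hab ha hb hay ha hy]
    congr 1
    exact Set.ext fun s => ⟨fun ⟨h1, h2⟩ => ⟨h1, h1.1, h2.2.1.symm, h2.2.2.symm⟩,
      fun ⟨h1, h2⟩ => ⟨h1, hy, h2.2.1.symm, h2.2.2.symm⟩⟩
  have := double_count (fun s y => y ∈ Nb D s) hk hm
  rw [C.card_nb ha] at this
  omega

theorem card_com {a b : G} (hab : ¬ Commute a b) (ha : a ∈ D) (hb : b ∈ D) :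
    (Com D a b).ncard = 3240 := by
  classical
  haveI : Fintype D := Fintype.ofFinite _
  set m := (Com D a b).ncard with hm
  set o := {y | y ∈ D ∧ ¬ Commute a y}.ncard with ho
  have hom : o * m = 891855360 := C.far_mul hab ha hb
  have hm0 : 0 < m := Nat.pos_of_ne_zero fun h => by simp [h] at hom
  have hmk : m ≤ 31671 := by
    rw [hm, ← C.card_nb ha]
    exact Set.ncard_le_ncard Set.inter_subset_left
  have hcardD : Fintype.card D = 1 + 31671 + o := by
    have e : insert a (Nb D a) ∪ {y | y ∈ D ∧ ¬ Commute a y} = D := by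
      refine Set.Subset.antisymm ?_ fun y hy => ?_
      · rintro y ((rfl | hy) | hy)
        exacts [ha, hy.1, hy.1]
      · by_cases hc : Commute a y
        · by_cases e : y = a
          exacts [Or.inl (Or.inl e), Or.inl (Or.inr ⟨hy, e, hc⟩)]
        · exact Or.inr ⟨hy, hc⟩
    have hd : Disjoint (insert a (Nb D a)) {y | y ∈ D ∧ ¬ Commute a y} := by
      rw [Set.disjoint_left]
      rintro y (rfl | hy) hy'
      exacts [hy'.2 (Commute.refl _), hy'.2 hy.2.2]
    rw [← Nat.card_eq_fintype_card, Nat.card_coe_set_eq]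
    conv_lhs => rw [← e]
    rw [Set.ncard_union_eq hd, Set.ncard_insert_of_notMem (fun h => h.2.1 rfl), C.card_nb ha, ← ho]
  let A : Matrix D D ℝ := Matrix.of fun v w => if (w : G) ∈ Nb D v then 1 else 0
  have sym : ∀ v w : D, (w : G) ∈ Nb D v ↔ (v : G) ∈ Nb D w := fun v w =>
    ⟨fun h => ⟨v.2, h.2.1.symm, h.2.2.symm⟩, fun h => ⟨w.2, h.2.1.symm, h.2.2.symm⟩⟩
  have card_sub : ∀ S : Set G, S ⊆ D →
      ((Finset.univ : Finset D).filter fun w : D => (w : G) ∈ S).card = S.ncard := by
    intro S hS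
    rw [← Set.ncard_coe_finset]
    refine Set.ncard_congr (fun (w : D) _ => (w : G)) (fun w hw => by simpa using hw)
      (fun a b _ _ e => Subtype.ext e) fun y hy => ⟨⟨y, hS hy⟩, by simpa using hy, rfl⟩
  have hrow : ∀ v, ∑ w, A v w = ((31671 : ℤ) : ℝ) := fun v => by
    simp only [A, Matrix.of_apply]
    rw [Finset.sum_boole, card_sub (Nb D v) (fun y hy => hy.1), C.card_nb v.2]
    norm_num
  have hsq : A * A = (((31671 : ℤ) : ℝ) - ((m : ℤ) : ℝ)) • (1 : Matrix D D ℝ) +
      (((3510 : ℤ) : ℝ) - ((m : ℤ) : ℝ)) • A +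
      ((m : ℤ) : ℝ) • Matrix.of (fun _ _ => (1 : ℝ)) := by
    ext v w
    have hvw : (A * A) v w = ((Nb D v ∩ Nb D w).ncard : ℝ) := by
      rw [Matrix.mul_apply, ← card_sub (Nb D v ∩ Nb D w) (fun y hy => hy.1.1), ← Finset.sum_boole]
      refine Finset.sum_congr rfl fun z _ => ?_
      simp only [A, Matrix.of_apply, Set.mem_inter_iff, sym z w]
      split_ifs <;> simp_all
    rw [hvw]
    simp only [Matrix.add_apply, Matrix.smul_apply, Matrix.one_apply, Matrix.of_apply, A, smul_eq_mul]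
    by_cases e : v = w
    · subst e
      rw [Set.inter_self, C.card_nb v.2, if_pos rfl, if_neg fun h => h.2.1 rfl]
      push_cast
      ring
    have e' : (v : G) ≠ w := fun h => e (Subtype.ext h)
    by_cases hc : Commute (v : G) (w : G)
    · have hmem : (w : G) ∈ Nb D v := ⟨w.2, e'.symm, hc⟩
      rw [C.card_edge v.2 hmem, if_neg e, if_pos hmem]
      push_cast
      ring
    · rw [show (Nb D v ∩ Nb D w).ncard = m from C.ncard_com_eq hc v.2 w.2 hab ha hb, if_neg e,
        if_neg fun h => hc h.2.2]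
      push_cast
      ring
  haveI : Nonempty D := ⟨⟨a, ha⟩⟩
  have hD : (0 : ℤ) < (3510 - (m : ℤ)) ^ 2 + 4 * (31671 - (m : ℤ)) := by
    rcases Nat.lt_or_ge m 31671 with h | h
    · nlinarith [sq_nonneg ((3510 : ℤ) - m)]
    · rw [show m = 31671 by omega]; norm_num
  obtain ⟨q, hq⟩ := srg_trace (A := A) (l := 3510) hcardD hrow (fun w => by
    rw [← hrow w]
    refine Finset.sum_congr rfl fun v _ => ?_
    simp only [A, Matrix.of_apply, sym v w]) (fun v => by
    simp only [A, Matrix.of_apply]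
    exact if_neg fun h => h.2.1 rfl) hsq hD
  refine mu_eq hm0 hmk hom (q := q) ?_
  rw [hq]
  push_cast
  ring

/-- The frame holds, so the uniqueness machinery for M(24) applies. -/
theorem ctx : FischerUnique24.Ctx D D1 := by
  refine ⟨C.group, C.prim, C.center, C.low, C.chart, ?_⟩
  obtain ⟨a, ha, -⟩ := C.prim.2.1
  obtain ⟨b, hb, hab⟩ := C.exists_far ha
  refine ⟨a, ha, b, hb, hab, ?_⟩
  have hL := C.card_pair_cent hab ha hb
  have h := Subgroup.card_eq_card_quotient_mul_card_subgroup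
    (Subgroup.center (Subgroup.closure (Com D a b)))
  rw [Subgroup.card_eq_one.2 (C.center_pair hab ha hb), mul_one, hL, C.card_com hab ha hb] at h
  exact h.symm

end Pre

/-- A group in the induction with type M(23) at one member is locally of type M(23). -/
theorem pre_of_loc {G : Type u} [Group G] [Finite G] {D : Set G} (hL : FischerClass.Loc D) {d : G}
    (hd : d ∈ D) (h : Cfsg.IsOfTypeM23 (Q D d) (img D d)) : Pre D (img D d) :=
  ⟨hL.tg, hL.prim, hL.cz, ⟨(hL.std_img hd).tg, (hL.std_img hd).prim, h⟩,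
    fun _ ht => hL.toStd.exists_chart hd ht⟩

end Cfsg.Agent.FischerClassTy
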