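import Cfsg.Agent.Lib.FischerClassTy.PlusData
import Cfsg.Agent.Lib.Fi23Plus.Final
import Cfsg.Agent.Lib.FischerThree24.Defs

/-!
Kernel checks: the diagram symmetry carries the common neighbours of the standard far pair onto the
neighbours of the standard transposition in the three classes of 1080.
-/

set_option autoImplicit false
set_option maxRecDepth 100000

namespace Cfsg.Agent.FischerClassTy.Plus

open Cfsg.Agent.CosetCert
open Cfsg.Agent.CosetData
open Cfsg.Agent.FischerPresented
open Cfsg.Agent.Fi23Ord3 (actF fstep wok)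
open Cfsg.Agent.FischerThree24 (mW)
open PlusData

/-- An entry is as required. -/
noncomputable def entryOK (e : ℕ × List ℕ) : Bool :=
  (e.2.all fun x => Nat.blt x 9) && (Nat.beq (actF (mW e.2) (Out23.gpt 6)) e.1 &&
    Nat.blt (Fi23Plus.cls (actF e.2 (Out23.gpt 0))) 3)

theorem entries_ok : (tab.all fun l => l.all entryOK) = true := by decide +kernel

/-- A point is tabulated or does not commute with both transpositions. -/
noncomputable def coverAt (p : ℕ) : Bool :=
  !(Nat.beq (fstep 9 p) p) || (!(Nat.beq (actF Fi23.zW p) p) || (Nat.beq p 0 ||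
    tab.any fun l => l.any fun e => Nat.beq e.1 p))

theorem cover_ok : allBelow coverAt 31671 = true := by decide +kernel

theorem count_near : Out23.countBelow (fun p => Nat.blt (Fi23Plus.cls p) 3 &&
    (!(Nat.beq p 0) && Nat.beq (actF Fi23.zW p) p)) 31671 = 351 := by decide +kernel

theorem carry_ok : (carryW.all fun x => Nat.ble 1 x && Nat.ble x 9) = true ∧
    actF carryW 0 = Out23.gpt 1 ∧ fstep 9 (Out23.gpt 1) = Out23.gpt 1 ∧ Out23.gpt 9 ≠ Out23.gpt 1 := by
  decide +kernel

theorem root_near : fstep 1 Fi23Plus.uR = Fi23Plus.uR := by decide +kernel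

end Cfsg.Agent.FischerClassTy.Plus
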