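/-!
Data: for the 351 transpositions of presented Fi23 commuting with the first and with the last generator,
a word of the first nine generators whose mirror leads to it.
-/

set_option autoImplicit false
set_option maxRecDepth 100000

namespace Cfsg.Agent.FischerClassTy.PlusData

/-- Block 0. -/
def tab0 : List (Nat × List Nat) := [(1056, [1, 0, 2, 3, 4, 5, 7, 3, 2, 4, 3, 7]),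
  (1057, [1, 0, 2, 3, 4, 5, 6, 7, 3, 2, 4, 3, 7]),
  (1058, [1, 0, 2, 3, 4, 5, 7, 3, 2, 4, 3]),
  (1059, [1, 0, 2, 3, 4, 5, 6, 7, 3, 2, 4, 3]),
  (1060, [1, 0, 2, 3, 4, 5, 7, 3, 2, 4, 3, 7, 8]),
  (1061, [1, 0, 2, 3, 4, 5, 6, 7, 3, 2, 4, 3, 7, 8]),
  (1062, [1, 0, 2, 3, 4, 5, 6, 7, 3, 2, 4, 3, 5, 7]),
  (1063, [1, 0, 2, 3, 4, 5, 6, 7, 3, 2, 4, 3, 5]),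
  (1064, [1, 0, 2, 3, 4, 5, 6, 7, 3, 2, 4, 3, 5, 7, 8]),
  (1065, [1, 0, 2, 3, 4, 5, 7, 3, 2, 4]),
  (1066, [1, 0, 2, 3, 4, 5, 6, 7, 3, 2, 4]),
  (1067, [1, 0, 2, 3, 4, 5, 6, 7, 3, 2, 4, 5]),
  (1068, [1, 0, 2, 3, 4, 5, 7, 3, 2, 4, 3, 8]),
  (1069, [1, 0, 2, 3, 4, 5, 6, 7, 3, 2, 4, 3, 8]),
  (1070, [1, 0, 2, 3, 4, 5, 6, 7, 3, 2, 4, 3, 5, 8]),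
  (1071, [1, 0, 2, 3, 4, 5, 7, 3, 2, 4, 8])]

/-- Block 1. -/
def tab1 : List (Nat × List Nat) := [(1072, [1, 0, 2, 3, 4, 5, 6, 7, 3, 2, 4, 8]),
  (1073, [1, 0, 2, 3, 4, 5, 6, 7, 3, 2, 4, 5, 8]),
  (1074, [1, 0, 2, 3, 4, 5, 7, 3, 2, 4, 3, 7, 8, 7]),
  (1075, [1, 0, 2, 3, 4, 5, 6, 7, 3, 2, 4, 3, 7, 8, 7]),
  (1076, [1, 0, 2, 3, 4, 5, 6, 7, 3, 2, 4, 3, 5, 7, 8, 7]),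
  (1077, [1, 0, 2, 3, 4, 5, 7, 3, 2, 4, 3, 8, 7]),
  (1078, [1, 0, 2, 3, 4, 5, 6, 7, 3, 2, 4, 3, 8, 7]),
  (1079, [1, 0, 2, 3, 4, 5, 6, 7, 3, 2, 4, 3, 5, 8, 7]),
  (1080, [1, 0, 2, 3, 4, 5, 6, 7, 3, 2, 4, 3, 5, 4, 7]),
  (1081, [1, 0, 2, 3, 4, 5, 6, 7, 3, 2, 4, 3, 5, 4]),
  (1082, [1, 0, 2, 3, 4, 5, 6, 7, 3, 2, 4, 3, 5, 4, 7, 8]),
  (1083, [1, 0, 2, 3, 4, 5, 6, 7, 3, 2, 4, 3, 5, 4, 8]),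
  (1084, [1, 0, 2, 3, 4, 5, 6, 7, 3, 2, 4, 3, 5, 4, 7, 8, 7]),
  (1085, [1, 0, 2, 3, 4, 5, 6, 7, 3, 2, 4, 3, 5, 4, 8, 7]),
  (1086, [1, 0, 2, 3, 4, 5, 7, 3, 2, 4, 3, 7, 8, 7, 3]),
  (1087, [1, 0, 2, 3, 4, 5, 6, 7, 3, 2, 4, 3, 7, 8, 7, 3])]

/-- Block 2. -/
def tab2 : List (Nat × List Nat) := [(1088, [1, 0, 2, 3, 4, 5, 6, 7, 3, 2, 4, 3, 5, 7, 8, 7, 3]),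
  (1089, [1, 0, 2, 3, 4, 5, 7, 3, 2, 4, 3, 8, 7, 3]),
  (1090, [1, 0, 2, 3, 4, 5, 6, 7, 3, 2, 4, 3, 8, 7, 3]),
  (1091, [1, 0, 2, 3, 4, 5, 6, 7, 3, 2, 4, 3, 5, 8, 7, 3]),
  (1092, [1, 0, 2, 3, 4, 5, 6, 7, 3, 2, 4, 3, 5, 4, 7, 3]),
  (1093, [1, 0, 2, 3, 4, 5, 6, 7, 3, 2, 4, 3, 5, 4, 7, 3, 8]),
  (1094, [1, 0, 2, 3, 4, 5, 6, 7, 3, 2, 4, 3, 5, 4, 7, 8, 7, 3]),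
  (1095, [1, 0, 2, 3, 4, 5, 6, 7, 3, 2, 4, 3, 5, 4, 8, 7, 3]),
  (1116, [1, 0, 2, 3, 4, 5, 7, 3, 2]),
  (1117, [1, 0, 2, 3, 4, 5, 6, 7, 3, 2]),
  (1118, [1, 0, 2, 3, 4, 5, 7, 3, 2, 8]),
  (1119, [1, 0, 2, 3, 4, 5, 6, 7, 3, 2, 8]),
  (1173, [1, 0, 2, 3, 4, 5, 7, 3, 2, 4, 8, 7]),
  (1174, [1, 0, 2, 3, 4, 5, 6, 7, 3, 2, 4, 8, 7]),
  (1175, [1, 0, 2, 3, 4, 5, 7, 3, 2, 4, 8, 7, 3]),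
  (1176, [1, 0, 2, 3, 4, 5, 6, 7, 3, 2, 4, 8, 7, 3])]

/-- Block 3. -/
def tab3 : List (Nat × List Nat) := [(1177, [1, 0, 2, 3, 4, 5, 6, 7, 3, 2, 4, 5, 8, 7]),
  (1178, [1, 0, 2, 3, 4, 5, 6, 7, 3, 2, 4, 5, 8, 7, 3]),
  (1179, [1, 0, 2, 3, 4, 5, 6, 7, 3, 2, 8, 7]),
  (1180, [1, 0, 2, 3, 4, 5, 7, 3, 2, 8, 7]),
  (1211, [1, 0, 2, 3, 4, 5, 7, 3, 4]),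
  (1212, [1, 0, 2, 3, 4, 5, 6, 7, 3, 4]),
  (1213, [1, 0, 2, 3, 4, 5, 7, 3]),
  (1214, [1, 0, 2, 3, 4, 5, 6, 7, 3]),
  (1215, [1, 0, 2, 3, 4, 5, 7, 3, 4, 8]),
  (1216, [1, 0, 2, 3, 4, 5, 6, 7, 3, 4, 8]),
  (1217, [1, 0, 2, 3, 4, 5, 7, 3, 8]),
  (1218, [1, 0, 2, 3, 4, 5, 6, 7, 3, 8]),
  (1219, [1, 0, 2, 3, 4, 5, 6, 7, 3, 4, 5]),
  (1220, [1, 0, 2, 3, 4, 5, 6, 7, 3, 4, 5, 8]),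
  (1221, [1, 0, 2, 3, 4, 5, 7, 3, 4, 8, 7]),
  (1222, [1, 0, 2, 3, 4, 5, 6, 7, 3, 4, 8, 7])]

/-- Block 4. -/
def tab4 : List (Nat × List Nat) := [(1223, [1, 0, 2, 3, 4, 5, 6, 7, 3, 8, 7]),
  (1224, [1, 0, 2, 3, 4, 5, 7, 3, 8, 7]),
  (1225, [1, 0, 2, 3, 4, 5, 6, 7, 3, 4, 5, 8, 7]),
  (1305, [1, 0, 2, 3, 4, 5, 7, 3, 2, 4, 3, 7, 8, 7, 3, 4]),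
  (1306, [1, 0, 2, 3, 4, 5, 6, 7, 3, 2, 4, 3, 7, 8, 7, 3, 4]),
  (1307, [1, 0, 2, 3, 4, 5, 7, 3, 2, 4, 3, 8, 7, 3, 4]),
  (1308, [1, 0, 2, 3, 4, 5, 6, 7, 3, 2, 4, 3, 8, 7, 3, 4]),
  (1309, [1, 0, 2, 3, 4, 5, 6, 7, 3, 2, 4, 8, 7, 3, 4]),
  (1310, [1, 0, 2, 3, 4, 5, 7, 3, 2, 4, 8, 7, 3, 4]),
  (1366, [1, 0, 2, 3, 4, 5, 6, 7, 3, 2, 4, 3, 5, 7, 8, 7, 3, 4]),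
  (1367, [1, 0, 2, 3, 4, 5, 6, 7, 3, 2, 4, 3, 5, 4, 7, 8, 7, 3, 4]),
  (1368, [1, 0, 2, 3, 4, 5, 6, 7, 3, 2, 4, 3, 5, 8, 7, 3, 4]),
  (1369, [1, 0, 2, 3, 4, 5, 6, 7, 3, 2, 4, 3, 5, 4, 8, 7, 3, 4]),
  (1370, [1, 0, 2, 3, 4, 5, 6, 7, 3, 2, 4, 5, 8, 7, 3, 4]),
  (1431, [1, 0, 2, 3, 4, 5, 7, 3, 2, 4, 3, 7, 8, 7, 3, 2]),
  (1432, [1, 0, 2, 3, 4, 5, 6, 7, 3, 2, 4, 3, 7, 8, 7, 3, 2])]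

/-- Block 5. -/
def tab5 : List (Nat × List Nat) := [(1433, [1, 0, 2, 3, 4, 5, 7, 3, 2, 4, 3, 7, 8, 7, 3, 2, 4]),
  (1434, [1, 0, 2, 3, 4, 5, 6, 7, 3, 2, 4, 3, 7, 8, 7, 3, 2, 4]),
  (1435, [1, 0, 2, 3, 4, 5, 7, 3, 2, 4, 3, 8, 7, 3, 2]),
  (1436, [1, 0, 2, 3, 4, 5, 6, 7, 3, 2, 4, 3, 8, 7, 3, 2]),
  (1437, [1, 0, 2, 3, 4, 5, 7, 3, 2, 4, 3, 8, 7, 3, 2, 4]),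
  (1438, [1, 0, 2, 3, 4, 5, 6, 7, 3, 2, 4, 3, 8, 7, 3, 2, 4]),
  (1439, [1, 0, 2, 3, 4, 5, 6, 7, 3, 2, 4, 3, 5, 7, 8, 7, 3, 2]),
  (1440, [1, 0, 2, 3, 4, 5, 6, 7, 3, 2, 4, 3, 5, 8, 7, 3, 2]),
  (1441, [1, 0, 2, 3, 4, 5, 7, 3, 2, 4, 8, 7, 3, 2]),
  (1442, [1, 0, 2, 3, 4, 5, 6, 7, 3, 2, 4, 8, 7, 3, 2]),
  (1443, [1, 0, 2, 3, 4, 5, 6, 7, 3, 2, 4, 8, 7, 3, 2, 4]),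
  (1444, [1, 0, 2, 3, 4, 5, 7, 3, 2, 4, 8, 7, 3, 2, 4]),
  (1445, [1, 0, 2, 3, 4, 5, 6, 7, 3, 2, 4, 5, 8, 7, 3, 2]),
  (1458, [1, 0, 2, 3, 4, 5, 6, 7, 3, 2, 4, 3, 5, 7, 8, 7, 3, 2, 4]),
  (1459, [1, 0, 2, 3, 4, 5, 6, 7, 3, 2, 4, 3, 5, 8, 7, 3, 2, 4]),
  (1460, [1, 0, 2, 3, 4, 5, 6, 7, 3, 2, 4, 5, 8, 7, 3, 2, 4])]

/-- Block 6. -/
def tab6 : List (Nat × List Nat) := [(1495, [1, 0, 2, 3, 4, 5, 6, 7, 3, 2, 4, 3, 5, 4, 7, 3, 8, 7]),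
  (1496, [1, 0, 2, 3, 4, 5, 6, 7, 3, 2, 4, 3, 5, 4, 7, 3, 8, 7, 3]),
  (1497, [1, 0, 2, 3, 4, 5, 6, 7, 3, 2, 4, 3, 5, 4, 7, 3, 8, 7, 3, 4]),
  (1504, [1, 0, 2, 3, 4, 5, 6, 7, 3, 2, 4, 3, 5, 4, 7, 3, 2]),
  (1505, [1, 0, 2, 3, 4, 5, 6, 7, 3, 2, 4, 3, 5, 4, 7, 3, 2, 8]),
  (1506, [1, 0, 2, 1, 3, 4, 5, 6, 7, 3, 4, 5, 8, 7, 3, 2, 1, 4, 3]),
  (1595, [1, 0, 2, 3, 4, 5, 6, 7, 3, 2, 4, 3, 5, 4, 7, 8, 7, 3, 2]),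
  (1596, [1, 0, 2, 3, 4, 5, 6, 7, 3, 2, 4, 3, 5, 4, 7, 8, 7, 3, 2, 4]),
  (1597, [1, 0, 2, 3, 4, 5, 6, 7, 3, 4, 5, 8, 7, 3, 2, 1, 4, 3]),
  (1598, [1, 0, 2, 3, 4, 5, 6, 7, 3, 2, 4, 5, 8, 7, 3, 2, 1, 4, 3]),
  (1599, [1, 0, 2, 3, 4, 5, 6, 7, 3, 2, 4, 3, 5, 4, 8, 7, 3, 2]),
  (1600, [1, 0, 2, 3, 4, 5, 6, 7, 3, 2, 4, 3, 5, 4, 8, 7, 3, 2, 4]),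
  (1840, [1, 0, 2, 3, 4, 7, 3, 2, 8, 7, 3, 4]),
  (1841, [1, 0, 2, 3, 4, 7, 3, 2, 8, 7, 3, 4, 5]),
  (1842, [1, 0, 2, 3, 4, 7, 3, 2, 8, 7, 3]),
  (1843, [1, 0, 2, 3, 4, 7, 3, 2, 8, 7, 3, 4, 5, 6])]

/-- Block 7. -/
def tab7 : List (Nat × List Nat) := [(1844, [1, 0, 2, 3, 4, 5, 7, 3, 2, 8, 7, 3, 4, 5]),
  (1845, [1, 0, 2, 3, 4, 5, 7, 3, 2, 8, 7, 3, 4, 5, 6]),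
  (1846, [1, 0, 2, 3, 4, 5, 7, 3, 2, 8, 7, 3]),
  (1847, [1, 0, 2, 3, 4, 5, 7, 3, 2, 8, 7, 3, 4]),
  (1848, [1, 0, 2, 3, 4, 7, 3, 2, 8, 7]),
  (1849, [1, 0, 2, 3, 4, 5, 7, 3, 2, 4, 8, 7, 3, 4, 5]),
  (1850, [1, 0, 2, 3, 4, 5, 7, 3, 2, 4, 8, 7, 3, 4, 5, 6]),
  (1851, [1, 0, 2, 3, 4, 5, 6, 7, 3, 2, 8, 7, 3, 4, 5, 6]),
  (1852, [1, 0, 2, 3, 4, 5, 6, 7, 3, 2, 4, 8, 7, 3, 4, 5, 6]),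
  (1853, [1, 0, 2, 3, 4, 5, 6, 7, 3, 2, 8, 7, 3]),
  (1854, [1, 0, 2, 3, 4, 5, 6, 7, 3, 2, 8, 7, 3, 4]),
  (1855, [1, 0, 2, 3, 4, 5, 6, 7, 3, 2, 8, 7, 3, 4, 5]),
  (1856, [1, 0, 2, 3, 4, 5, 6, 7, 3, 2, 4, 8, 7, 3, 4, 5]),
  (1857, [1, 0, 2, 3, 4, 7, 3, 2, 8]),
  (1862, [1, 0, 2, 3, 4, 7, 3, 8, 7]),
  (1863, [1, 0, 2, 3, 4, 7, 3, 8])]

/-- Block 8. -/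
def tab8 : List (Nat × List Nat) := [(1944, [1, 0, 2, 3, 4, 5, 7, 3, 2, 4, 3, 8, 7, 3, 4, 5]),
  (1945, [1, 0, 2, 3, 4, 5, 7, 3, 2, 4, 3, 8, 7, 3, 4, 5, 6]),
  (1946, [1, 0, 2, 3, 4, 5, 6, 7, 3, 2, 4, 3, 8, 7, 3, 4, 5, 6]),
  (1947, [1, 0, 2, 3, 4, 5, 6, 7, 3, 2, 4, 3, 8, 7, 3, 4, 5]),
  (2004, [1, 0, 2, 3, 4, 5, 6, 7, 3, 2, 4, 5, 8, 7, 3, 4, 5, 6]),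
  (2005, [1, 0, 2, 3, 4, 5, 6, 7, 3, 2, 4, 5, 8, 7, 3, 4, 5]),
  (2006, [1, 0, 2, 3, 4, 5, 6, 7, 3, 2, 4, 3, 5, 8, 7, 3, 4, 5, 6]),
  (2007, [1, 0, 2, 3, 4, 5, 6, 7, 3, 2, 4, 3, 5, 8, 7, 3, 4, 5]),
  (2032, [1, 0, 2, 3, 4, 5, 7, 3, 2, 4, 8, 7, 3, 2, 4, 5]),
  (2033, [1, 0, 2, 3, 4, 5, 7, 3, 2, 4, 8, 7, 3, 2, 4, 5, 6]),
  (2034, [1, 0, 2, 3, 4, 5, 7, 3, 2, 4, 3, 8, 7, 3, 2, 4, 5]),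
  (2035, [1, 0, 2, 3, 4, 5, 7, 3, 2, 4, 3, 8, 7, 3, 2, 4, 5, 6]),
  (2036, [1, 0, 2, 3, 4, 5, 6, 7, 3, 2, 4, 8, 7, 3, 2, 4, 5, 6]),
  (2037, [1, 0, 2, 3, 4, 5, 6, 7, 3, 2, 4, 3, 8, 7, 3, 2, 4, 5, 6]),
  (2046, [1, 0, 2, 3, 4, 5, 6, 7, 3, 2, 4, 8, 7, 3, 2, 4, 5]),
  (2047, [1, 0, 2, 3, 4, 5, 6, 7, 3, 2, 4, 3, 8, 7, 3, 2, 4, 5])]

/-- Block 9. -/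
def tab9 : List (Nat × List Nat) := [(2056, [1, 0, 2, 3, 4, 5, 6, 7, 3, 2, 4, 5, 8, 7, 3, 2, 4, 5, 6]),
  (2057, [1, 0, 2, 3, 4, 5, 6, 7, 3, 2, 4, 3, 5, 8, 7, 3, 2, 4, 5, 6]),
  (2066, [1, 0, 2, 3, 4, 5, 6, 7, 3, 2, 4, 5, 8, 7, 3, 2, 4, 5]),
  (2067, [1, 0, 2, 3, 4, 5, 6, 7, 3, 2, 4, 3, 5, 8, 7, 3, 2, 4, 5]),
  (3509, [1, 0, 2, 3, 4, 7, 3, 2]),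
  (3510, [1, 0, 2, 3, 4, 7, 3]),
  (3523, [1, 0, 2, 3, 4, 5, 7]),
  (3524, [1, 0, 2, 3, 4, 5, 6, 7]),
  (3525, [1, 0, 2, 3, 4, 7]),
  (3526, [1, 0, 2, 3, 4, 5, 7, 8]),
  (3527, [1, 0, 2, 3, 4, 5, 6, 7, 8]),
  (3528, [1, 0, 2, 3, 4, 7, 8]),
  (3547, [1, 0, 2, 3, 4, 5, 7, 3, 4, 8, 7, 3]),
  (3548, [1, 0, 2, 3, 4, 5, 6, 7, 3, 4, 8, 7, 3]),
  (3549, [1, 0, 2, 3, 4, 5, 7, 3, 4, 8, 7, 3, 2]),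
  (3550, [1, 0, 2, 3, 4, 5, 6, 7, 3, 4, 8, 7, 3, 2])]

/-- Block 10. -/
def tab10 : List (Nat × List Nat) := [(3551, [1, 0, 2, 3, 4, 5, 6, 7, 3, 4, 5, 8, 7, 3]),
  (3552, [1, 0, 2, 3, 4, 5, 6, 7, 3, 4, 5, 8, 7, 3, 2]),
  (3559, [1, 0, 2, 1, 3, 4, 5, 7, 3, 4]),
  (3560, [1, 0, 2, 1, 3, 4, 5, 6, 7, 3, 4]),
  (3561, [1, 0, 2, 1, 3, 4, 5, 7, 3]),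
  (3562, [1, 0, 2, 1, 3, 4, 5, 6, 7, 3]),
  (3563, [1, 0, 2, 1, 3, 4, 5, 7, 3, 4, 8]),
  (3564, [1, 0, 2, 1, 3, 4, 5, 6, 7, 3, 4, 8]),
  (3565, [1, 0, 2, 1, 3, 4, 5, 7, 3, 8]),
  (3566, [1, 0, 2, 1, 3, 4, 5, 6, 7, 3, 8]),
  (3567, [1, 0, 2, 1, 3, 4, 5, 6, 7, 3, 4, 5]),
  (3568, [1, 0, 2, 1, 3, 4, 5, 6, 7, 3, 4, 5, 8]),
  (3569, [1, 0, 2, 1, 3, 4, 7, 3]),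
  (3570, [1, 0, 2, 1, 3, 4, 5, 7]),
  (3571, [1, 0, 2, 1, 3, 4, 5, 6, 7]),
  (3572, [1, 0, 2, 1, 3, 4, 5, 7, 8])]

/-- Block 11. -/
def tab11 : List (Nat × List Nat) := [(3573, [1, 0, 2, 1, 3, 4, 5, 6, 7, 8]),
  (3574, [1, 0, 2, 1, 3, 4, 7]),
  (3575, [1, 0, 2, 1, 3, 4, 7, 8]),
  (3576, [1, 0, 2, 1, 3, 4, 7, 3, 8]),
  (3577, [1, 0, 2, 1, 3, 4, 5, 7, 3, 4, 8, 7]),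
  (3578, [1, 0, 2, 1, 3, 4, 5, 6, 7, 3, 4, 8, 7]),
  (3579, [1, 0, 2, 1, 3, 4, 5, 7, 3, 8, 7]),
  (3580, [1, 0, 2, 1, 3, 4, 5, 6, 7, 3, 8, 7]),
  (3581, [1, 0, 2, 1, 3, 4, 5, 6, 7, 3, 4, 5, 8, 7]),
  (3582, [1, 0, 2, 1, 3, 4, 5, 7, 3, 4, 8, 7, 3]),
  (3583, [1, 0, 2, 1, 3, 4, 5, 6, 7, 3, 4, 8, 7, 3]),
  (3584, [1, 0, 2, 1, 3, 4, 5, 6, 7, 3, 4, 5, 8, 7, 3]),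
  (3585, [1, 0, 2, 1, 3, 4, 7, 3, 8, 7]),
  (3604, [1, 0, 2, 3, 4, 5, 7, 3, 2, 4, 3, 7, 8, 7, 3, 4, 5]),
  (3605, [1, 0, 2, 3, 4, 5, 7, 3, 2, 4, 3, 7, 8, 7, 3, 2, 4, 5]),
  (3788, [1, 0, 2, 3, 4, 5, 6, 7, 3, 2, 4, 3, 7, 8, 7, 3, 4, 5])]

/-- Block 12. -/
def tab12 : List (Nat × List Nat) := [(3789, [1, 0, 2, 3, 4, 5, 6, 7, 3, 2, 4, 3, 5, 7, 8, 7, 3, 4, 5]),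
  (3790, [1, 0, 2, 3, 4, 5, 6, 7, 3, 2, 4, 3, 5, 4, 7, 8, 7, 3, 4, 5]),
  (3791, [1, 0, 2, 3, 4, 5, 6, 7, 3, 2, 4, 3, 5, 4, 7, 3, 8, 7, 3, 4, 5]),
  (3792, [1, 0, 2, 3, 4, 5, 6, 7, 3, 2, 4, 3, 5, 4, 8, 7, 3, 4, 5]),
  (3793, [1, 0, 2, 3, 4, 5, 6, 7, 3, 2, 4, 3, 7, 8, 7, 3, 2, 4, 5]),
  (3794, [1, 0, 2, 3, 4, 5, 6, 7, 3, 2, 4, 3, 5, 7, 8, 7, 3, 2, 4, 5]),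
  (3795, [1, 0, 2, 3, 4, 5, 6, 7, 3, 2, 4, 3, 5, 4, 7, 8, 7, 3, 2, 4, 5]),
  (3796, [1, 0, 2, 3, 4, 5, 6, 7, 3, 2, 4, 5, 8, 7, 3, 2, 1, 4, 3, 5]),
  (3797, [1, 0, 2, 3, 4, 5, 6, 7, 3, 2, 4, 3, 5, 4, 8, 7, 3, 2, 4, 5]),
  (3933, [1, 0, 2, 3, 4, 5, 7, 3, 2, 4, 3, 7, 8, 7, 3, 2, 4, 3]),
  (3934, [1, 0, 2, 3, 4, 5, 6, 7, 3, 2, 4, 3, 7, 8, 7, 3, 2, 4, 3]),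
  (3935, [1, 0, 2, 3, 4, 5, 7, 3, 2, 4, 3, 8, 7, 3, 2, 1, 4]),
  (3936, [1, 0, 2, 3, 4, 5, 7, 3, 2, 4, 3, 8, 7, 3, 2, 4, 3]),
  (3937, [1, 0, 2, 3, 4, 5, 6, 7, 3, 2, 4, 3, 8, 7, 3, 2, 4, 3]),
  (3938, [1, 0, 2, 3, 4, 5, 6, 7, 3, 2, 4, 3, 7, 8, 7, 3, 2, 4, 3, 5]),
  (3939, [1, 0, 2, 3, 4, 5, 7, 3, 2, 4, 3, 7, 8, 7, 3, 2, 1, 4])]

/-- Block 13. -/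
def tab13 : List (Nat × List Nat) := [(3947, [1, 0, 2, 3, 4, 5, 6, 7, 3, 2, 4, 3, 8, 7, 3, 2, 4, 3, 5]),
  (3958, [1, 0, 2, 3, 4, 5, 7, 3, 2, 4, 3, 7, 8, 7, 3, 2, 1]),
  (3959, [1, 0, 2, 3, 4, 5, 6, 7, 3, 2, 4, 3, 7, 8, 7, 3, 2, 1]),
  (3962, [1, 0, 2, 3, 4, 5, 7, 3, 2, 4, 3, 8, 7, 3, 2, 1]),
  (3963, [1, 0, 2, 3, 4, 5, 6, 7, 3, 2, 4, 3, 8, 7, 3, 2, 1]),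
  (3966, [1, 0, 2, 3, 4, 5, 6, 7, 3, 2, 4, 3, 5, 7, 8, 7, 3, 2, 1]),
  (3968, [1, 0, 2, 3, 4, 5, 6, 7, 3, 2, 4, 3, 5, 8, 7, 3, 2, 1]),
  (3970, [1, 0, 2, 3, 4, 5, 6, 7, 3, 2, 4, 3, 7, 8, 7, 3, 2, 1, 4]),
  (3972, [1, 0, 2, 3, 4, 5, 6, 7, 3, 2, 4, 3, 8, 7, 3, 2, 1, 4]),
  (3974, [1, 0, 2, 3, 4, 5, 7, 3, 2, 4, 8, 7, 3, 2, 1]),
  (3975, [1, 0, 2, 3, 4, 5, 6, 7, 3, 2, 4, 8, 7, 3, 2, 1]),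
  (3978, [1, 0, 2, 3, 4, 5, 6, 7, 3, 2, 4, 5, 8, 7, 3, 2, 1]),
  (3980, [1, 0, 2, 3, 4, 5, 6, 7, 3, 2, 4, 8, 7, 3, 2, 1, 4]),
  (3982, [1, 0, 2, 3, 4, 5, 7, 3, 2, 4, 8, 7, 3, 2, 1, 4]),
  (3984, [1, 0, 2, 3, 4, 5, 6, 7, 3, 2, 4, 3, 5, 7, 8, 7, 3, 2, 1, 4]),
  (3986, [1, 0, 2, 3, 4, 5, 6, 7, 3, 2, 4, 3, 5, 8, 7, 3, 2, 1, 4])]

/-- Block 14. -/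
def tab14 : List (Nat × List Nat) := [(3988, [1, 0, 2, 3, 4, 5, 6, 7, 3, 2, 4, 5, 8, 7, 3, 2, 1, 4]),
  (3990, [1, 0, 2, 3, 4, 5, 6, 7, 3, 2, 4, 3, 7, 8, 7, 3, 2, 1, 4, 5]),
  (3992, [1, 0, 2, 3, 4, 5, 6, 7, 3, 2, 4, 3, 5, 7, 8, 7, 3, 2, 1, 4, 5]),
  (3994, [1, 0, 2, 3, 4, 5, 6, 7, 3, 2, 4, 3, 8, 7, 3, 2, 1, 4, 3]),
  (3996, [1, 0, 2, 3, 4, 5, 7, 3, 4, 8, 7, 3, 2, 1]),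
  (3997, [1, 0, 2, 3, 4, 5, 6, 7, 3, 4, 8, 7, 3, 2, 1]),
  (4000, [1, 0, 2, 3, 4, 5, 6, 7, 3, 4, 5, 8, 7, 3, 2, 1]),
  (4002, [1, 0, 2, 3, 4, 5, 6, 7, 3, 2, 4, 3, 8, 7, 3, 2, 1, 4, 5]),
  (4004, [1, 0, 2, 3, 4, 5, 6, 7, 3, 2, 4, 3, 5, 8, 7, 3, 2, 1, 4, 5]),
  (4006, [1, 0, 2, 3, 4, 5, 6, 7, 3, 2, 4, 3, 7, 8, 7, 3, 2, 4, 5, 6]),
  (4008, [1, 0, 2, 3, 4, 5, 6, 7, 3, 2, 4, 8, 7, 3, 2, 1, 4, 5]),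
  (4010, [1, 0, 2, 3, 4, 5, 6, 7, 3, 2, 4, 5, 8, 7, 3, 2, 1, 4, 5]),
  (4052, [1, 0, 2, 3, 4, 5, 6, 7, 3, 2, 4, 3, 5, 7, 8, 7, 3, 2, 4, 3]),
  (4053, [1, 0, 2, 3, 4, 5, 6, 7, 3, 2, 4, 3, 5, 7, 8, 7, 3, 2, 4, 3, 5]),
  (4054, [1, 0, 2, 3, 4, 5, 6, 7, 3, 2, 4, 3, 5, 4, 7, 8, 7, 3, 2, 4, 3]),
  (4055, [1, 0, 2, 3, 4, 5, 6, 7, 3, 2, 4, 3, 5, 4, 7, 8, 7, 3, 2, 4, 3, 5])]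

/-- Block 15. -/
def tab15 : List (Nat × List Nat) := [(4056, [1, 0, 2, 3, 4, 5, 6, 7, 3, 2, 4, 3, 5, 8, 7, 3, 2, 4, 3]),
  (4057, [1, 0, 2, 3, 4, 5, 6, 7, 3, 2, 4, 3, 5, 4, 8, 7, 3, 2, 4, 3]),
  (4058, [1, 0, 2, 3, 4, 5, 6, 7, 3, 2, 4, 3, 5, 4, 8, 7, 3, 2, 4, 3, 5]),
  (4059, [1, 0, 2, 3, 4, 5, 6, 7, 3, 2, 4, 3, 5, 8, 7, 3, 2, 4, 3, 5]),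
  (4068, [1, 0, 2, 3, 4, 5, 6, 7, 3, 2, 4, 3, 5, 7, 8, 7, 3, 2, 1, 4, 3]),
  (4069, [1, 0, 2, 3, 4, 5, 6, 7, 3, 2, 4, 3, 5, 7, 8, 7, 3, 2, 1, 4, 3, 5]),
  (4070, [1, 0, 2, 3, 4, 5, 6, 7, 3, 2, 4, 3, 5, 8, 7, 3, 2, 1, 4, 3]),
  (4071, [1, 0, 2, 3, 4, 5, 6, 7, 3, 2, 4, 3, 5, 8, 7, 3, 2, 1, 4, 3, 5]),
  (4081, [1, 0, 2, 3, 4, 5, 6, 7, 3, 2, 4, 5, 8, 7, 3, 2, 4, 3]),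
  (4089, [1, 0, 2, 1, 3, 4, 5, 6, 7, 3, 4, 5, 8, 7, 3, 2, 1, 4]),
  (4090, [1, 0, 2, 3, 4, 5, 6, 7, 3, 4, 5, 8, 7, 3, 2, 1, 4]),
  (4091, [1, 0, 2, 3, 4, 5, 6, 7, 3, 2, 4, 3, 5, 4, 7, 3, 2, 1]),
  (4092, [1, 0, 2, 1, 3, 4, 5, 6, 7, 3, 4, 5, 8, 7, 3, 2, 4, 3, 7]),
  (4093, [1, 0, 2, 1, 3, 4, 5, 6, 7, 3, 4, 5, 8, 7, 3, 2, 4, 3]),
  (4094, [1, 0, 2, 1, 3, 4, 5, 6, 7, 3, 4, 5, 8, 7, 3, 2, 4]),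
  (4488, [1, 0, 2, 3, 4, 5, 6, 7, 3, 4, 5, 8, 7, 3, 2, 4, 3, 7])]

/-- Block 16. -/
def tab16 : List (Nat × List Nat) := [(4489, [1, 0, 2, 3, 4, 5, 6, 7, 3, 2, 4, 5, 8, 7, 3, 2, 4, 3, 7]),
  (4490, [1, 0, 2, 3, 4, 5, 6, 7, 3, 4, 5, 8, 7, 3, 2, 4, 3]),
  (4491, [1, 0, 2, 3, 4, 5, 6, 7, 3, 2, 4, 3, 5, 4, 8, 7, 3, 2, 1]),
  (4492, [1, 0, 2, 3, 4, 5, 6, 7, 3, 2, 4, 3, 5, 4, 8, 7, 3, 2, 1, 4]),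
  (4493, [1, 0, 2, 3, 4, 5, 6, 7, 3, 2, 4, 5, 8, 7, 3, 2, 4, 3, 5, 7]),
  (4494, [1, 0, 2, 3, 4, 5, 6, 7, 3, 2, 4, 3, 5, 4, 8, 7, 3, 2, 1, 4, 5]),
  (4495, [1, 0, 2, 3, 4, 5, 6, 7, 3, 2, 4, 3, 5, 8, 7, 3, 2, 4, 3, 7]),
  (4496, [1, 0, 2, 3, 4, 5, 6, 7, 3, 2, 4, 3, 5, 4, 8, 7, 3, 2, 1, 4, 3]),
  (4497, [1, 0, 2, 3, 4, 5, 6, 7, 3, 2, 4, 3, 5, 8, 7, 3, 2, 4, 3, 5, 7]),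
  (4498, [1, 0, 2, 3, 4, 5, 6, 7, 3, 2, 4, 3, 5, 4, 8, 7, 3, 2, 1, 4, 3, 5]),
  (4499, [1, 0, 2, 3, 4, 5, 6, 7, 3, 4, 5, 8, 7, 3, 2, 4]),
  (4500, [1, 0, 2, 3, 4, 5, 6, 7, 3, 2, 4, 5, 8, 7, 3, 2, 4, 3, 5]),
  (4585, [1, 0, 2, 3, 4, 5, 7, 3, 2, 4, 3, 7, 8, 7, 3, 4, 5, 6]),
  (4586, [1, 0, 2, 3, 4, 5, 6, 7, 3, 2, 4, 3, 7, 8, 7, 3, 4, 5, 6]),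
  (4587, [1, 0, 2, 3, 4, 5, 6, 7, 3, 2, 4, 3, 5, 7, 8, 7, 3, 4, 5, 6]),
  (4588, [1, 0, 2, 3, 4, 5, 6, 7, 3, 2, 4, 3, 5, 7, 8, 7, 3, 2, 4, 5, 6])]

/-- Block 17. -/
def tab17 : List (Nat × List Nat) := [(4609, [1, 0, 2, 3, 4, 5, 6, 7, 3, 2, 4, 3, 5, 4, 8, 7, 3, 4, 5, 6]),
  (4610, [1, 0, 2, 3, 4, 5, 6, 7, 3, 2, 4, 3, 5, 4, 7, 8, 7, 3, 4, 5, 6]),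
  (4712, [1, 0, 2, 3, 4, 5, 7, 3, 2, 4, 8, 7, 3, 2, 1, 4, 5]),
  (4713, [1, 0, 2, 3, 4, 5, 7, 3, 2, 4, 8, 7, 3, 2, 1, 4, 5, 6]),
  (4716, [1, 0, 2, 3, 4, 5, 6, 7, 3, 2, 4, 8, 7, 3, 2, 1, 4, 5, 6]),
  (4718, [1, 0, 2, 3, 4, 5, 6, 7, 3, 2, 4, 5, 8, 7, 3, 2, 1, 4, 5, 6]),
  (4720, [1, 0, 2, 3, 4, 5, 6, 7, 3, 2, 4, 3, 5, 8, 7, 3, 2, 1, 4, 5, 6]),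
  (4722, [1, 0, 2, 3, 4, 5, 6, 7, 3, 2, 4, 3, 8, 7, 3, 2, 4, 3, 5, 4]),
  (4740, [1, 0, 2, 3, 4, 5, 6, 7, 3, 2, 4, 5, 8, 7, 3, 2, 4, 3, 5, 6]),
  (4743, [1, 0, 2, 3, 4, 5, 6, 7, 3, 2, 4, 5, 8, 7, 3, 2, 1, 4, 3, 5, 6]),
  (4755, [1, 0, 2, 3, 4, 5, 6, 7, 3, 2, 4, 3, 5, 8, 7, 3, 2, 4, 3, 5, 6]),
  (4756, [1, 0, 2, 3, 4, 5, 6, 7, 3, 2, 4, 3, 5, 7, 8, 7, 3, 2, 4, 3, 5, 6]),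
  (4759, [1, 0, 2, 3, 4, 5, 6, 7, 3, 2, 4, 3, 5, 7, 8, 7, 3, 2, 4, 3, 5, 4]),
  (4760, [1, 0, 2, 3, 4, 5, 6, 7, 3, 2, 4, 3, 5, 8, 7, 3, 2, 4, 3, 5, 4]),
  (8558, [1, 0, 2, 3, 4, 5]),
  (8559, [1, 0, 2, 3, 4, 5, 6])]

/-- Block 18. -/
def tab18 : List (Nat × List Nat) := [(8560, [1, 0, 2, 3, 4]),
  (8561, [1, 0, 2, 1, 3, 4, 5]),
  (8562, [1, 0, 2, 1, 3, 4, 5, 6]),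
  (8563, [1, 0, 2, 1, 3, 4]),
  (8570, [1, 0, 2, 3, 7]),
  (8571, [1, 0, 2, 3]),
  (8572, [1, 0, 2, 3, 7, 8]),
  (8573, [1, 0, 2, 1, 3, 7]),
  (8574, [1, 0, 2, 1, 3]),
  (8575, [1, 0, 2, 1, 3, 7, 8]),
  (8586, [1, 0, 2, 3, 4, 5, 6, 7, 3, 4, 5, 8, 7, 3, 4]),
  (8589, [1, 0, 2, 1, 3, 4, 5, 6, 7, 3, 4, 5, 8, 7, 3, 4]),
  (8592, [1, 0, 2, 1, 3, 2, 4, 5, 7]),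
  (8593, [1, 0, 2, 1, 3, 2, 4, 5, 6, 7]),
  (8594, [1, 0, 2, 1, 3, 2, 4, 7]),
  (8595, [1, 0, 2, 1, 3, 2, 4, 5])]

/-- Block 19. -/
def tab19 : List (Nat × List Nat) := [(8596, [1, 0, 2, 1, 3, 2, 4, 5, 6]),
  (8597, [1, 0, 2, 1, 3, 2, 4]),
  (8598, [1, 0, 2, 1, 3, 2, 4, 5, 7, 8]),
  (8599, [1, 0, 2, 1, 3, 2, 4, 5, 6, 7, 8]),
  (8600, [1, 0, 2, 1, 3, 2, 4, 7, 8]),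
  (8601, [1, 0, 2, 1, 3, 2, 7]),
  (8602, [1, 0, 2, 1, 3, 2]),
  (8603, [1, 0, 2, 1, 3, 2, 7, 8]),
  (8604, [1, 0, 2, 1, 3, 4, 5, 7, 3, 4, 8, 7, 3, 2]),
  (8605, [1, 0, 2, 1, 3, 4, 5, 6, 7, 3, 4, 8, 7, 3, 2]),
  (8606, [1, 0, 2, 1, 3, 4, 5, 7, 3, 4, 8, 7, 3, 2, 1]),
  (8607, [1, 0, 2, 1, 3, 4, 5, 6, 7, 3, 4, 8, 7, 3, 2, 1]),
  (8608, [1, 0, 2, 1, 3, 4, 5, 6, 7, 3, 4, 5, 8, 7, 3, 2]),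
  (8609, [1, 0, 2, 1, 3, 4, 5, 6, 7, 3, 4, 5, 8, 7, 3, 2, 1]),
  (9237, [1, 0, 2, 3, 4, 5, 6, 7, 3, 2, 4, 3, 5, 4, 7, 8, 7, 3, 2, 4, 5, 6]),
  (9238, [1, 0, 2, 3, 4, 5, 6, 7, 3, 2, 4, 3, 5, 4, 8, 7, 3, 2, 4, 5, 6])]

/-- Block 20. -/
def tab20 : List (Nat × List Nat) := [(9239, [1, 0, 2, 3, 4, 5, 6, 7, 3, 2, 4, 3, 5, 4, 7, 8, 7, 3, 2, 4, 3, 5, 6]),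
  (9240, [1, 0, 2, 3, 4, 5, 6, 7, 3, 2, 4, 3, 5, 4, 8, 7, 3, 2, 4, 3, 5, 6]),
  (9309, [1, 0, 2, 3, 4, 5, 6, 7, 3, 2, 4, 3, 5, 4, 7, 3, 8, 7, 3, 4, 5, 6]),
  (9310, [1, 0, 2, 3, 4, 5, 6, 7, 3, 2, 4, 5, 8, 7, 3, 2, 4, 3, 5, 6, 7]),
  (9311, [1, 0, 2, 3, 4, 5, 6, 7, 3, 2, 4, 3, 5, 4, 8, 7, 3, 2, 1, 4, 5, 6]),
  (9312, [1, 0, 2, 3, 4, 5, 6, 7, 3, 2, 4, 3, 5, 8, 7, 3, 2, 4, 3, 5, 6, 7]),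
  (9313, [1, 0, 2, 3, 4, 5, 6, 7, 3, 2, 4, 3, 5, 4, 8, 7, 3, 2, 1, 4, 3, 5, 6]),
  (9372, [1, 0, 2, 3, 4, 5, 6, 7, 3, 2, 4, 3, 5, 7, 8, 7, 3, 2, 4, 3, 7]),
  (9373, [1, 0, 2, 3, 4, 5, 6, 7, 3, 2, 4, 3, 5, 7, 8, 7, 3, 2, 4, 3, 5, 7]),
  (9388, [1, 0, 2, 3, 4, 5, 6, 7, 3, 2, 4, 3, 5, 4, 8, 7, 3, 2, 1, 4, 3, 2]),
  (9389, [1, 0, 2, 3, 4, 5, 6, 7, 3, 2, 4, 3, 5, 4, 8, 7, 3, 2, 1, 4, 3, 2, 5]),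
  (9444, [1, 0, 2, 3, 4, 5, 6, 7, 3, 2, 4, 3, 5, 8, 7, 3, 2, 4, 3, 5, 4, 7]),
  (9445, [1, 0, 2, 3, 4, 5, 6, 7, 3, 2, 4, 3, 5, 4, 7, 8, 7, 3, 2, 4, 3, 5, 4]),
  (9498, [1, 0, 2, 3, 4, 5, 6, 7, 3, 2, 4, 3, 5, 4, 8, 7, 3, 2, 4, 3, 7]),
  (9499, [1, 0, 2, 3, 4, 5, 6, 7, 3, 2, 4, 3, 5, 4, 8, 7, 3, 2, 4, 3, 5, 7]),
  (9500, [1, 0, 2, 3, 4, 5, 6, 7, 3, 2, 4, 3, 5, 4, 8, 7, 3, 2, 1, 4, 3, 5, 4])]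

/-- Block 21. -/
def tab21 : List (Nat × List Nat) := [(9545, [1, 0, 2, 3, 4, 5, 6, 7, 3, 2, 4, 3, 5, 4, 8, 7, 3, 2, 1, 4, 3, 7]),
  (9546, [1, 0, 2, 3, 4, 5, 6, 7, 3, 2, 4, 3, 5, 4, 8, 7, 3, 2, 1, 4, 3, 5, 7]),
  (9547, [1, 0, 2, 3, 4, 5, 6, 7, 3, 2, 4, 3, 5, 4, 8, 7, 3, 2, 4, 3, 5, 4]),
  (16797, [1, 0, 2]),
  (16798, [1, 0, 2, 1]),
  (16799, [1, 0, 2, 1, 3, 2, 4, 3, 5]),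
  (16800, [1, 0, 2, 1, 3, 2, 4, 3, 5, 6]),
  (16801, [1, 0, 2, 1, 3, 2, 4, 3]),
  (16802, [1, 0, 2, 1, 3, 2, 7, 3]),
  (16803, [1, 0, 2, 1, 3, 2, 7, 3, 8]),
  (23799, [1, 0]),
  (23800, [1, 0, 2, 1, 3, 2, 4, 3, 5, 4]),
  (23801, [1, 0, 2, 1, 3, 2, 4, 3, 5, 4, 6]),
  (23802, [1, 0, 2, 1, 3, 2, 7, 3, 8, 7]),
  (26625, [1, 0, 2, 1, 3, 2, 4, 3, 5, 4, 6, 5])]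

/-- All blocks. -/
def tab : List (List (Nat × List Nat)) := [tab0, tab1, tab2, tab3, tab4, tab5, tab6, tab7, tab8, tab9, tab10, tab11, tab12, tab13, tab14, tab15, tab16, tab17, tab18, tab19, tab20, tab21]

/-- A word moving the first point to that of the second generator. -/
def carryW : List Nat := [9, 6, 5, 4, 3, 2, 1, 7, 3, 2, 4, 3, 5, 4, 6, 5, 7, 3, 2, 4, 3, 7, 9, 6, 5, 4, 3, 2]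

end Cfsg.Agent.FischerClassTy.PlusData
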