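import Cfsg.Agent.Lib.FischerClassTy.PlusChecks
import Cfsg.Agent.Lib.FischerThree24.Align

/-!
In a group over Fi23, a chart at one member of a standard far pair carries the common neighbours of the
pair near a fixed one exactly onto the neighbours of the standard transposition in the three classes.
-/

set_option autoImplicit false
set_option maxRecDepth 100000

namespace Cfsg.Agent.FischerClassTy.Plus

open Cfsg.Agent.CosetCert
open Cfsg.Agent.CosetData
open Cfsg.Agent.Fischer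
open Cfsg.Agent.Fischer.Factor
open Cfsg.Agent.FischerPresented
open Cfsg.Agent.FischerUnique24 (Ctx Com Hd Far)
open Cfsg.Agent.Fi23Ord3 (GT el apt apt_el actF wok fstep)
open Cfsg.Agent.FischerThree24 (Chart Pair mW el_tr el_single exists_pair mem_Hd_iff)
open Cfsg.Agent.Fi23Plus (II W cls gg)

local notation "gT" => Setup.gen Fi23A.setup

/-- The neighbours of the standard transposition in the three classes. -/
def IINb : Set GT := {v | v ∈ Fi23.D ∧ v ∈ II ∧ v ≠ Fi23.z ∧ Commute Fi23.z v}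

theorem el_zW : el Fi23.zW = Fi23.z := by
  obtain ⟨hp, e⟩ := Fi23Ord3.el_twW (v := []) (p := 0) (by rfl)
  rw [show Fi23Ord3.twW [] = Fi23.zW by simp [Fi23Ord3.twW]] at e
  rw [e]
  exact Out23.tr_zero

theorem zW_ok : wok Fi23.zW = true := by decide +kernel

theorem commute_z_iff {p : ℕ} (hp : p < 31671) :
    Commute Fi23.z (Out23.tr ⟨p, hp⟩) ↔ actF Fi23.zW p = p := by
  rw [← Fi23Ord3.apt_fix_iff _ hp, ← el_zW, apt_el zW_ok hp]

theorem commute_gen_iff {x p : ℕ} (hx : x < 10) (hp : p < 31671) :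
    Commute (gT x) (Out23.tr ⟨p, hp⟩) ↔ fstep x p = p := by
  rw [← Fi23Ord3.apt_fix_iff _ hp, ← Fi23Plus.gg_eq, Fi23Plus.apt_gg hx hp]

theorem mem_II_iff {p : ℕ} (hp : p < 31671) : Out23.tr ⟨p, hp⟩ ∈ II ↔ cls p < 3 := by
  refine ⟨Fi23Plus.cls_of_mem hp, fun h => ?_⟩
  obtain ⟨g, hg, e⟩ := Fi23Plus.exists_carry hp h
  have h0 : g * Out23.tr (0 : Fin 31671) * g⁻¹ = Out23.tr ⟨p, hp⟩ := by
    rw [← Out23.tr_hom]
    exact congrArg Out23.tr (Fin.ext ((Fi23Ord3.apt_of_lt g (show 0 < 31671 by norm_num)).symm.trans e))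
  rw [← h0, Out23.tr_zero]
  exact mul_mem (mul_mem hg Fi23Plus.z_mem_II) (inv_mem hg)

theorem ncard_IINb : IINb.ncard = 351 := by
  have hc := count_near
  rw [Out23.countBelow_eq] at hc
  rw [← hc, ← Set.ncard_image_of_injective _ Out23.tr_injective]
  congr 1
  ext v
  simp only [IINb, Set.mem_ofPred_eq, Set.mem_image, Bool.and_eq_true, Bool.not_eq_true']
  constructor
  · rintro ⟨hv, hII, hne, hz⟩
    obtain ⟨⟨p, hp⟩, rfl⟩ := Out23.exists_tr hv
    have h1 : Nat.blt (cls p) 3 = true := Nat.blt_eq.mpr ((mem_II_iff hp).1 hII)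
    have h2 : Nat.beq p 0 = false := by
      refine Bool.eq_false_iff.2 fun e => hne ?_
      have e0 : p = 0 := Nat.eq_of_beq_eq_true e
      subst e0
      exact Out23.tr_zero
    have h3 : Nat.beq (actF Fi23.zW p) p = true := by
      rw [Nat.beq_eq]
      exact (commute_z_iff hp).1 hz
    exact ⟨⟨p, hp⟩, ⟨h1, h2, h3⟩, rfl⟩
  · rintro ⟨⟨p, hp⟩, ⟨h1, h2, h3⟩, rfl⟩
    refine ⟨Out23.tr_mem _, (mem_II_iff hp).2 (Nat.blt_eq.mp h1), fun e => ?_,
      (commute_z_iff hp).2 (Nat.eq_of_beq_eq_true h3)⟩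
    rw [← Out23.tr_zero] at e
    exact Nat.ne_of_beq_eq_false h2 (congrArg Fin.val (Out23.tr_injective e))

theorem el_comm_z : ∀ w : List ℕ, (w.all fun x => Nat.blt x 9) = true → Commute (el w) Fi23.z
  | [], _ => Commute.one_left _
  | x :: w, hw => by
    simp only [List.all_cons, Bool.and_eq_true, Nat.blt_eq] at hw
    rw [show x :: w = [x] ++ w from rfl, Fi23Ord3.el_append, el_single]
    exact (el_comm_z w hw.2).mul_left (Fi23.z_comm x hw.1).symm

universe u v

variable {G : Type u} {X : Type v} [Group G] [Group X] [Finite G] [Finite X] {D : Set G} {D1 : Set X}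

/-- A standard far pair with a chart and a common neighbour. -/
structure Base (D : Set G) (r u b : G) (f : G → GT) : Prop where
  chart : Chart D r f
  mem_r : r ∈ D
  mem_b : b ∈ D
  far : ¬ Commute r b
  com : u ∈ Com D r b
  fu : f u = Fi23.z
  image : f '' (Nb D u ∩ Com D r b) = IINb

theorem exists_base (C : Ctx D D1) {r : G} (hr : r ∈ D) : ∃ u b f, Base D r u b f := by
  classical
  have := Fi23.order_facts.1
  obtain ⟨u, hu⟩ := C.nb_nonempty hr
  obtain ⟨f, hf, hfu⟩ := FischerThree24.exists_chart C hr hu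
  obtain ⟨h, hP⟩ := exists_pair C hr hu hf hfu
  obtain ⟨h9, e9⟩ := Out23.tr_gpt (show 9 < 10 by norm_num)
  obtain ⟨b, hb, hbe⟩ := hP.ch.isChart.lift (gT 9) (e9 ▸ Out23.tr_mem _)
  have hru : r ∈ Nb D u := ⟨hr, hu.2.1.symm, hu.2.2.symm⟩
  have hfar : ¬ Commute r b := fun e => by
    have := (hP.ch.isChart.comm r hru b hb).2 e
    rw [hP.hr, hbe] at this
    exact FischerUnique23.nine_not_commute this
  have hcom : u ∈ Com D r b := ⟨hu, hu.1, hb.2.1.symm, hb.2.2.symm⟩
  refine ⟨u, b, f, hf, hr, hb.1, hfar, hcom, hfu, Set.eq_of_subset_of_ncard_le ?_ (le_of_eq ?_) (Set.toFinite _)⟩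
  · rintro _ ⟨y, ⟨hyu, hyr, hyb⟩, rfl⟩
    obtain ⟨⟨q, hq⟩, hqe⟩ := Out23.exists_tr (hP.ch.isChart.mem y hyu)
    have c1 : Commute Fi23.z (h y) := hP.hr ▸ (hP.ch.isChart.comm r hru y hyu).2 hyr.2.2
    have c2 : Commute (gT 9) (h y) := hbe ▸ (hP.ch.isChart.comm b hb y hyu).2 hyb.2.2
    rw [← hqe] at c1 c2
    have hq0 : q ≠ 0 := fun e => by
      subst e
      refine hyr.2.1 (hP.ch.isChart.inj y hyu r hru ?_)
      rw [hP.hr, ← hqe]
      exact Out23.tr_zero
    have hcov := allBelow_spec cover_ok hq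
    simp only [coverAt, Bool.or_eq_true, Bool.not_eq_true', Nat.beq_eq, List.any_eq_true] at hcov
    rcases hcov with e | e | e | ⟨l, hl, e, he, heq⟩
    · exact absurd ((commute_gen_iff (by norm_num) hq).1 c2) (Nat.ne_of_beq_eq_false e)
    · exact absurd ((commute_z_iff hq).1 c1) (Nat.ne_of_beq_eq_false e)
    · exact absurd e hq0
    have hok := List.all_eq_true.1 (List.all_eq_true.1 entries_ok l hl) e he
    simp only [entryOK, Bool.and_eq_true, Nat.beq_eq, Nat.blt_eq] at hok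
    obtain ⟨hw, hm, hc⟩ := hok
    have hw' : (e.2.all fun x => Nat.blt x 9) = true := hw
    obtain ⟨wk, wk'⟩ := FischerThree24.wok_mW hw'
    obtain ⟨h0, e0⟩ := Out23.tr_gpt (show 0 < 10 by norm_num)
    obtain ⟨h6, e6⟩ := Out23.tr_gpt (show 6 < 10 by norm_num)
    obtain ⟨hp, ep⟩ := el_tr wk h0
    obtain ⟨hp', ep'⟩ := el_tr wk' h6
    rw [e0] at ep
    rw [e6] at ep'
    set v := Out23.tr ⟨actF e.2 (Out23.gpt 0), hp⟩ with hv
    have hg0 := FischerUnique23.gen_nb 0 (by norm_num)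
    have hvz : Commute Fi23.z v := by
      rw [← ep]
      exact ((el_comm_z e.2 hw').symm.mul_right hg0.2.2).mul_right (el_comm_z e.2 hw').symm.inv_right
    have hvne : v ≠ Fi23.z := fun e' => hg0.2.1 (by
      have h1 := ep.trans e'
      rw [mul_inv_eq_iff_eq_mul, ← (el_comm_z e.2 hw').eq] at h1
      exact mul_left_cancel h1)
    obtain ⟨y', hy', ye⟩ := hf.isChart.lift v (Out23.tr_mem _)
    have hy'u : y' ∈ Nb D u := ⟨hy'.1, fun e' => hvne (by rw [← ye, e', hfu]),
      (hf.isChart.comm u hu y' hy').1 (by rw [hfu, ye]; exact hvz)⟩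
    have ha := hP.align y' ⟨hy', hy'u⟩ e.2 hw' (ye.trans ep.symm)
    rw [ep'] at ha
    have hyy : y' = y := hP.ch.isChart.inj y' hy'u y hyu (by
      rw [ha, ← hqe]
      exact congrArg Out23.tr (Fin.ext (hm.trans heq)))
    subst hyy
    rw [ye]
    exact ⟨Out23.tr_mem _, (mem_II_iff hp).2 hc, hvne, hvz⟩
  · obtain ⟨fs, hfs, h1, h2, hB, himg⟩ := C.com_frame hfar hr hb.1 hcom
    rw [ncard_IINb, Set.InjOn.ncard_image fun a ha c hc => hf.isChart.inj a ha.2.1 c hc.2.1]
    rw [← C.low.card_common (hfs.mem r h1) hB, ← himg,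
      Set.InjOn.ncard_image fun a ha c hc => hfs.inj a ha.1 c hc.1]

end Cfsg.Agent.FischerClassTy.Plus
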